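import Mathlib.Algebra.Module.Projective
import Mathlib.LinearAlgebra.Matrix.Charpoly.Coeff
import Mathlib.LinearAlgebra.Matrix.ToLin
import Mathlib.LinearAlgebra.Determinant
import Mathlib.RingTheory.Finiteness.Basic
import Mathlib.RingTheory.TensorProduct.Basic

/-!
# Dual bases of finite projective modules, determinants and characteristic polynomials

A dual basis `(v_j, ξ_j)` of a module `P` gives a matrix `mat φ` for every endomorphism `φ`.
The determinant `nrm φ = det (1 + mat (φ - 1))` is independent of the dual basis, and the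
characteristic polynomial of `mat φ` only depends on the number of vectors.
-/

universe u v w

open scoped TensorProduct Matrix
open Polynomial

namespace Groth.Agent.Lib.GrpdQuot

variable {A : Type u} [CommRing A] {P : Type v} [AddCommGroup P] [Module A P]

/-- A finite dual basis. -/
structure DualBasis (A : Type u) [CommRing A] (P : Type v) [AddCommGroup P] [Module A P] where
  /-- the number of generators -/
  n : ℕ
  /-- the generators -/
  v : Fin n → P
  /-- the coordinates -/
  ξ : Fin n → P →ₗ[A] A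
  sum_eq : ∀ p, ∑ j, ξ j p • v j = p

namespace DualBasis

/-- Finite projective modules have dual bases. -/
theorem exists_dualBasis [Module.Finite A P] [Module.Projective A P] :
    Nonempty (DualBasis A P) := by
  obtain ⟨n, f, hf⟩ := Module.Finite.exists_fin' A P
  obtain ⟨g, hg⟩ := Module.projective_lifting_property f LinearMap.id hf
  refine ⟨⟨n, fun j ↦ f (Pi.single j 1), fun j ↦ (LinearMap.proj j) ∘ₗ g, fun p ↦ ?_⟩⟩
  conv_rhs => rw [← LinearMap.id_apply (R := A) p, ← hg, LinearMap.comp_apply,
    pi_eq_sum_univ (g p), map_sum]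
  refine Finset.sum_congr rfl fun j _ ↦ ?_
  rw [map_smul]
  congr 2
  ext i
  simp [Pi.single_apply, eq_comm]

variable (D : DualBasis A P)

/-- The matrix of an endomorphism. -/
def mat (φ : Module.End A P) : Matrix (Fin D.n) (Fin D.n) A :=
  Matrix.of fun i j ↦ D.ξ i (φ (D.v j))

theorem mat_apply (φ : Module.End A P) (i j) : D.mat φ i j = D.ξ i (φ (D.v j)) := rfl

theorem mat_add (φ ψ : Module.End A P) : D.mat (φ + ψ) = D.mat φ + D.mat ψ := by
  ext i j; simp [mat_apply]

theorem mat_sub (φ ψ : Module.End A P) : D.mat (φ - ψ) = D.mat φ - D.mat ψ := by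
  ext i j; simp [mat_apply]

theorem mat_smul (a : A) (φ : Module.End A P) : D.mat (a • φ) = a • D.mat φ := by
  ext i j; simp [mat_apply]

@[simp]
theorem mat_zero : D.mat 0 = 0 := by
  ext i j; simp [mat_apply]

theorem mat_mul (φ ψ : Module.End A P) : D.mat (φ * ψ) = D.mat φ * D.mat ψ := by
  ext i k
  rw [mat_apply, Module.End.mul_apply, Matrix.mul_apply]
  conv_lhs => rw [← D.sum_eq (ψ (D.v k))]
  simp only [map_sum, map_smul, smul_eq_mul, mat_apply, mul_comm]

theorem eq_zero_of_mat_eq_zero {φ : Module.End A P} (h : D.mat φ = 0) : φ = 0 := by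
  ext p
  rw [← D.sum_eq p, map_sum, LinearMap.zero_apply]
  refine Finset.sum_eq_zero fun j _ ↦ ?_
  rw [map_smul, ← D.sum_eq (φ (D.v j))]
  simp [show ∀ i, D.ξ i (φ (D.v j)) = 0 from fun i ↦ congrFun (congrFun h i) j]

/-- The determinant of an endomorphism of a finite projective module. -/
def nrm (φ : Module.End A P) : A := (1 + D.mat (φ - 1)).det

theorem mat_eq_mul (D' : DualBasis A P) (φ : Module.End A P) :
    D.mat φ =
      (Matrix.of fun i j ↦ D.ξ i (φ (D'.v j))) * Matrix.of fun i j ↦ D'.ξ i (D.v j) := by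
  ext i k
  rw [Matrix.mul_apply, mat_apply]
  conv_lhs => rw [← D'.sum_eq (D.v k)]
  simp only [map_sum, map_smul, smul_eq_mul, Matrix.of_apply, mul_comm]

theorem mat_eq_mul' (D' : DualBasis A P) (φ : Module.End A P) :
    D'.mat φ =
      (Matrix.of fun i j ↦ D'.ξ i (D.v j)) * Matrix.of fun i j ↦ D.ξ i (φ (D'.v j)) := by
  ext i k
  rw [Matrix.mul_apply, mat_apply]
  conv_lhs => rw [← D.sum_eq (φ (D'.v k))]
  simp only [map_sum, map_smul, smul_eq_mul, Matrix.of_apply, mul_comm]

/-- The determinant does not depend on the dual basis. -/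
theorem nrm_eq (D' : DualBasis A P) (φ : Module.End A P) : D.nrm φ = D'.nrm φ := by
  rw [nrm, nrm, D.mat_eq_mul D', D.mat_eq_mul' D', Matrix.det_one_add_mul_comm]

/-- The characteristic polynomial depends only on the number of vectors. -/
theorem charpoly_eq (D' : DualBasis A P) (hn : D.n = D'.n) (φ : Module.End A P) :
    (D.mat φ).charpoly = (D'.mat φ).charpoly := by
  obtain ⟨n, v', ξ', h'⟩ := D'
  obtain rfl : D.n = n := hn
  rw [D.mat_eq_mul ⟨D.n, v', ξ', h'⟩, D.mat_eq_mul' ⟨D.n, v', ξ', h'⟩, Matrix.charpoly_mul_comm]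

/-- Transport along a linear equivalence. -/
@[simps]
def map {Q : Type w} [AddCommGroup Q] [Module A Q] (e : P ≃ₗ[A] Q) : DualBasis A Q where
  n := D.n
  v j := e (D.v j)
  ξ j := D.ξ j ∘ₗ e.symm
  sum_eq q := by
    simp only [LinearMap.comp_apply, LinearEquiv.coe_coe]
    conv_lhs => simp only [← map_smul, ← map_sum, D.sum_eq, LinearEquiv.apply_symm_apply]

theorem mat_map {Q : Type w} [AddCommGroup Q] [Module A Q] (e : P ≃ₗ[A] Q) (φ : Module.End A P)
    (ψ : Module.End A Q) (h : ∀ p, ψ (e p) = e (φ p)) : (D.map e).mat ψ = D.mat φ := by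
  ext i j
  change D.ξ i (e.symm (ψ (e (D.v j)))) = _
  rw [h, e.symm_apply_apply]
  rfl

/-- Cayley–Hamilton. -/
theorem aeval_charpoly_eq_zero (φ : Module.End A P) : aeval φ (D.mat φ).charpoly = 0 := by
  have key : ∀ p : A[X], D.mat (aeval φ p) = aeval (D.mat φ) p * D.mat 1 := fun p ↦ by
    induction p using Polynomial.induction_on' with
    | add p q hp hq => simp [mat_add, add_mul, hp, hq]
    | monomial k a =>
      rw [aeval_monomial, aeval_monomial, ← Algebra.smul_def, ← Algebra.smul_def, mat_smul,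
        smul_mul_assoc]
      congr 1
      induction k with
      | zero => simp
      | succ k ih =>
        rw [pow_succ', pow_succ' (D.mat φ), mat_mul, ih, mul_assoc]
  exact D.eq_zero_of_mat_eq_zero (by rw [key, Matrix.aeval_self_charpoly, zero_mul])

theorem nrm_isUnit {φ : Module.End A P} (h : IsUnit φ) : IsUnit (D.nrm φ) := by
  obtain ⟨φ', h1, h2⟩ : ∃ φ', φ * φ' = 1 ∧ φ' * φ = 1 :=
    ⟨↑h.unit⁻¹, h.mul_val_inv, h.val_inv_mul⟩
  refine IsUnit.of_mul_eq_one ((1 + D.mat (φ' - 1)).det) ?_
  rw [nrm, ← Matrix.det_mul]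
  convert Matrix.det_one (R := A) (n := Fin D.n) using 2
  have : (φ - 1) + (φ' - 1) + (φ - 1) * (φ' - 1) = 0 := by
    rw [mul_sub, sub_mul, sub_mul, h1]
    simp only [one_mul, mul_one]
    abel
  rw [add_mul, mul_add, mul_add, ← mat_mul, one_mul, one_mul, mul_one, add_assoc]
  conv_rhs => rw [← add_zero (1 : Matrix (Fin D.n) (Fin D.n) A), ← D.mat_zero, ← this]
  simp only [mat_add]
  abel

theorem nrm_eq_zero_of_functional {φ : Module.End A P} (f : P →ₗ[A] A) (p : P) (hp : f p = 1)
    (hφ : ∀ q, f (φ q) = 0) : D.nrm φ = 0 := by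
  set M := 1 + D.mat (φ - 1) with hM
  let w : Fin D.n → A := fun i ↦ f (D.v i)
  have hw : w ᵥ* M = 0 := by
    funext k
    rw [hM, Matrix.vecMul_add, Matrix.vecMul_one, Pi.add_apply, Matrix.vecMul, dotProduct]
    have : ∑ i, w i * D.mat (φ - 1) i k = f ((φ - 1) (D.v k)) := by
      conv_rhs => rw [← D.sum_eq ((φ - 1) (D.v k))]
      simp [w, mat_apply, map_sum, mul_comm]
    rw [this]
    simp [w, hφ]
  have h0 : M.det • w = 0 := by
    have := congrArg (· ᵥ* M.adjugate) hw
    simp only [Matrix.vecMul_vecMul, Matrix.mul_adjugate, Matrix.zero_vecMul] at this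
    simpa [Matrix.vecMul_smul] using this
  have h1 : ∑ j, D.ξ j p * w j = 1 := by
    rw [← hp]
    conv_rhs => rw [← D.sum_eq p]
    simp [w, map_sum]
  calc D.nrm φ = M.det * ∑ j, D.ξ j p * w j := by rw [h1, mul_one]; rfl
    _ = ∑ j, D.ξ j p * (M.det * w j) := by rw [Finset.mul_sum]; exact Finset.sum_congr rfl fun j _ ↦ by ring
    _ = 0 := Finset.sum_eq_zero fun j _ ↦ by
      rw [show M.det * w j = 0 from congrFun h0 j, mul_zero]

/-- A basis is a dual basis. -/
noncomputable def ofBasis {n : ℕ} (b : Module.Basis (Fin n) A P) : DualBasis A P where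
  n := n
  v := b
  ξ j := b.coord j
  sum_eq p := b.sum_repr p

theorem nrm_ofBasis {n : ℕ} (b : Module.Basis (Fin n) A P) (φ : Module.End A P) :
    (ofBasis b).nrm φ = LinearMap.det φ := by
  have h1 : ∀ ψ : Module.End A P, (ofBasis b).mat ψ = LinearMap.toMatrix b b ψ := fun ψ ↦ by
    ext i j
    rw [LinearMap.toMatrix_apply]
    rfl
  rw [← LinearMap.det_toMatrix b, nrm, h1, map_sub, LinearMap.toMatrix_one]
  exact congrArg Matrix.det (add_sub_cancel (1 : Matrix (Fin n) (Fin n) A) _)

end DualBasis

/-! ### Scalars acting through a ring homomorphism -/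

/-- `K` as an algebra along `f : A →+* K`. -/
@[nolint unusedArguments]
def Along {A : Type u} [CommRing A] {K : Type w} [CommRing K] (_f : A →+* K) : Type w := K

section Along

variable {K : Type w} [CommRing K] (f : A →+* K)

instance : CommRing (Along f) := inferInstanceAs (CommRing K)

instance : Algebra A (Along f) := f.toAlgebra

instance : Algebra K (Along f) := inferInstanceAs (Algebra K K)

instance : SMulCommClass A K (Along f) :=
  ⟨fun a k (x : K) ↦ show f a * (k * x) = k * (f a * x) from mul_left_comm _ _ _⟩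

instance : SMulCommClass K A (Along f) := SMulCommClass.symm A K (Along f)

/-- The identity map. -/
def toAlong : K →ₗ[K] Along f := LinearMap.id

/-- The identity map. -/
def ofAlong : Along f →ₗ[K] K := LinearMap.id

theorem ofAlong_toAlong (k : K) : ofAlong f (toAlong f k) = k := rfl

namespace DualBasis

variable (D : DualBasis A P)

/-- The base-changed coordinate, as an `A`-linear map. -/
noncomputable def ξAlongₐ (j : Fin D.n) : Along f ⊗[A] P →ₗ[A] Along f :=
  TensorProduct.lift
    (LinearMap.mk₂ A (fun (k : Along f) p ↦ k * algebraMap A (Along f) (D.ξ j p))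
      (fun _ _ _ ↦ add_mul _ _ _) (fun _ _ _ ↦ smul_mul_assoc _ _ _)
      (fun _ _ _ ↦ by rw [map_add, map_add, mul_add])
      (fun a k p ↦ by rw [map_smul, smul_eq_mul, map_mul, Algebra.smul_def]; ring))

/-- The base-changed coordinate. -/
noncomputable def ξAlong (j : Fin D.n) : Along f ⊗[A] P →ₗ[K] K where
  toFun x := ofAlong f (D.ξAlongₐ f j x)
  map_add' x y := by simp [map_add]
  map_smul' c x := by
    induction x with
    | zero => simp
    | add x y hx hy => simp only [smul_add, map_add, hx, hy]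
    | tmul k p =>
      rw [TensorProduct.smul_tmul']
      exact mul_assoc c (ofAlong f k) _

theorem ξAlong_tmul (j : Fin D.n) (k : K) (p : P) :
    D.ξAlong f j (toAlong f k ⊗ₜ p) = k * f (D.ξ j p) := rfl

/-- Base change of a dual basis. -/
@[simps n]
noncomputable def along : DualBasis K (Along f ⊗[A] P) where
  n := D.n
  v j := 1 ⊗ₜ D.v j
  ξ j := D.ξAlong f j
  sum_eq x := by
    induction x with
    | zero => simp
    | add x y hx hy => simp [add_smul, Finset.sum_add_distrib, hx, hy]
    | tmul k p =>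
      conv_rhs => rw [← D.sum_eq p, TensorProduct.tmul_sum]
      refine Finset.sum_congr rfl fun j _ ↦ ?_
      rw [← TensorProduct.smul_tmul, TensorProduct.smul_tmul']
      congr 1
      change (ofAlong f k * f (D.ξ j p)) * 1 = f (D.ξ j p) * ofAlong f k
      rw [mul_one, mul_comm]

theorem mat_along (φ : Module.End A P) (ψ : Module.End K (Along f ⊗[A] P))
    (h : ∀ p, ψ (1 ⊗ₜ p) = 1 ⊗ₜ φ p) : (D.along f).mat ψ = (D.mat φ).map f := by
  ext i j
  change D.ξAlong f i (ψ (1 ⊗ₜ D.v j)) = f _
  rw [h]
  exact one_mul _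

end DualBasis

end Along

end Groth.Agent.Lib.GrpdQuot
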