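import Mathlib.RingTheory.Flat.FaithfullyFlat.Basic
import Mathlib.RingTheory.Spectrum.Prime.FreeLocus
import Mathlib.RingTheory.LocalRing.Module
import Mathlib.RingTheory.LocalRing.ResidueField.Ideal
import Mathlib.RingTheory.Finiteness.Projective
import Groth.Agent.Lib.GrpdQuot.DualBasis

/-!
# Fibres of finite projective algebras and modules

* `nrm_mem_iff`: the norm of `z` lies in a prime `p` iff `z` lies in a prime over `p`;
* spanning families at points, independence from rank.
-/

universe u

open scoped TensorProduct

namespace Groth.Agent.Lib.GrpdQuot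

variable {A : Type u} [CommRing A]

section Norm

variable {B : Type u} [CommRing B] [Algebra A B]

/-- A point of `B` over a point `g` of `A` gives a functional on the fibre. -/
theorem exists_functional {K : Type u} [CommRing K] (g : A →+* K) (β : B →+* K)
    (hβ : β.comp (algebraMap A B) = g) :
    ∃ F : (Along g ⊗[A] B) →ₐ[K] K, ∀ b, F (1 ⊗ₜ b) = β b := by
  subst hβ
  let βA : B →ₐ[A] Along (β.comp (algebraMap A B)) := { β with commutes' := fun _ ↦ rfl }
  let F₀ := Algebra.TensorProduct.lift (R := A)
    (AlgHom.id A (Along (β.comp (algebraMap A B)))) βA fun _ _ ↦ mul_comm _ _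
  refine ⟨{ toRingHom := (F₀.toRingHom : _ →+* Along (β.comp (algebraMap A B)))
            commutes' := fun k ↦ ?_ }, fun b ↦ ?_⟩
  · change F₀ (k ⊗ₜ[A] (1 : B)) = k
    simp [F₀]
  · change F₀ (1 ⊗ₜ b) = β b
    simp [F₀]
    rfl

/-- Norm of an element, base changed. -/
theorem map_nrm (D : DualBasis A B) {K : Type u} [CommRing K] (g : A →+* K) (z : B) :
    g (D.nrm (LinearMap.mulLeft A z)) =
      (D.along g).nrm (LinearMap.mulLeft K ((1 : Along g) ⊗ₜ[A] z)) := by
  rw [DualBasis.nrm, DualBasis.nrm, RingHom.map_det, D.mat_along g (LinearMap.mulLeft A z - 1) _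
    fun p ↦ by simp [TensorProduct.tmul_sub]]
  refine congrArg Matrix.det (Matrix.ext fun i j ↦ ?_)
  by_cases h : i = j
  · subst h
    simp
    exact (Matrix.one_apply_eq _).symm
  · simp [Matrix.one_apply_ne h]
    exact Matrix.one_apply_ne h

/-- The norm lies in a prime iff the element lies in a prime above it. -/
theorem nrm_mem_iff (D : DualBasis A B) (z : B) (p : Ideal A) [p.IsPrime] :
    D.nrm (LinearMap.mulLeft A z) ∈ p ↔
      ∃ P : Ideal B, P.IsPrime ∧ P.comap (algebraMap A B) = p ∧ z ∈ P := by
  constructor
  · intro h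
    by_contra hne
    let g := algebraMap A p.ResidueField
    have h0 : g (D.nrm (LinearMap.mulLeft A z)) = 0 :=
      (Ideal.algebraMap_residueField_eq_zero).2 h
    rw [map_nrm D g z] at h0
    refine (DualBasis.nrm_isUnit _ ?_).ne_zero h0
    have hu : IsUnit ((1 : Along g) ⊗ₜ[A] z) := by
      by_contra hn
      obtain ⟨I, hI, hmem⟩ := exists_max_ideal_of_mem_nonunits hn
      let ι : B →+* Along g ⊗[A] B :=
        (Algebra.TensorProduct.includeRight (R := A) (A := Along g) (B := B)).toRingHom
      refine hne ⟨I.comap ι, inferInstance, ?_, hmem⟩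
      ext a
      have : ι (algebraMap A B a) = algebraMap p.ResidueField (Along g ⊗[A] B) (g a) := by
        change (1 : Along g) ⊗ₜ[A] algebraMap A B a = toAlong g (g a) ⊗ₜ[A] (1 : B)
        rw [Algebra.algebraMap_eq_smul_one, ← TensorProduct.smul_tmul, Algebra.smul_def, mul_one]
        rfl
      rw [Ideal.mem_comap, Ideal.mem_comap, this, ← Ideal.algebraMap_residueField_eq_zero (I := p)]
      constructor
      · intro hmem
        by_contra hne0
        exact hI.ne_top (I.eq_top_of_isUnit_mem hmem ((IsUnit.mk0 _ hne0).map _))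
      · intro h0
        rw [h0, map_zero]
        exact I.zero_mem
    exact hu.map (Algebra.lmul p.ResidueField (Along g ⊗[A] B))
  · rintro ⟨P, hP, hcomap, hz⟩
    let β := algebraMap B P.ResidueField
    let g : A →+* P.ResidueField := β.comp (algebraMap A B)
    obtain ⟨F, hF⟩ := exists_functional g β rfl
    have : g (D.nrm (LinearMap.mulLeft A z)) = 0 := by
      rw [map_nrm D g z]
      refine DualBasis.nrm_eq_zero_of_functional _ F.toLinearMap 1 (map_one F) fun q ↦ ?_
      rw [AlgHom.toLinearMap_apply, LinearMap.mulLeft_apply, map_mul, hF,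
        show β z = 0 from (Ideal.algebraMap_residueField_eq_zero).2 hz, zero_mul]
    rw [← hcomap, Ideal.mem_comap]
    exact (Ideal.algebraMap_residueField_eq_zero).1 this

end Norm

section Span

variable {M : Type u} [AddCommGroup M] [Module A M] {r : ℕ} (v : Fin r → M)

/-- The vectors `v` span at `g`. -/
def SpansAt {K : Type u} [CommRing K] (g : A →+* K) : Prop :=
  Submodule.span (Along g) (Set.range fun i ↦ (1 : Along g) ⊗ₜ[A] v i) = ⊤

/-- The cokernel of the family `v`. -/
abbrev Coker (A : Type u) [CommRing A] {M : Type u} [AddCommGroup M] [Module A M] {r : ℕ}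
    (v : Fin r → M) : Type u := M ⧸ Submodule.span A (Set.range v)

theorem spansAt_iff {K : Type u} [CommRing K] (g : A →+* K) :
    SpansAt v g ↔ Subsingleton (Along g ⊗[A] Coker A v) := by
  let Q := Submodule.span A (Set.range v)
  let π := (Submodule.mkQ Q).baseChange (Along g)
  have hπ : Function.Surjective π := LinearMap.lTensor_surjective _ (Submodule.mkQ_surjective Q)
  constructor
  · intro h
    refine ⟨fun x y ↦ ?_⟩
    suffices ∀ x : Along g ⊗[A] Coker A v, x = 0 by rw [this x, this y]
    intro x
    obtain ⟨x, rfl⟩ := hπ x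
    have hx : x ∈ Submodule.span (Along g) (Set.range fun i ↦ (1 : Along g) ⊗ₜ[A] v i) := by
      rw [h]; exact Submodule.mem_top
    induction hx using Submodule.span_induction with
    | mem x hx =>
      obtain ⟨i, rfl⟩ := hx
      change (1 : Along g) ⊗ₜ[A] (Submodule.mkQ Q) (v i) = 0
      have h0 : (Submodule.mkQ Q) (v i) = 0 :=
        (Submodule.Quotient.mk_eq_zero Q).2 (Submodule.subset_span ⟨i, rfl⟩)
      rw [h0, TensorProduct.tmul_zero]
    | zero => simp
    | add x y _ _ hx hy => rw [map_add, hx, hy, add_zero]
    | smul a x _ hx => rw [map_smul, hx, smul_zero]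
  · intro h
    refine Submodule.eq_top_iff'.2 fun x ↦ ?_
    have hex := lTensor_exact (Along g) (LinearMap.exact_subtype_mkQ Q) (Submodule.mkQ_surjective Q)
    obtain ⟨y, rfl⟩ := (hex x).1 (Subsingleton.elim _ _)
    induction y with
    | zero => simp
    | add y z hy hz => rw [map_add]; exact Submodule.add_mem _ hy hz
    | tmul k q =>
      rw [LinearMap.lTensor_tmul]
      obtain ⟨q, hq⟩ := q
      induction hq using Submodule.span_induction with
      | mem m hm =>
        obtain ⟨i, rfl⟩ := hm
        have : (k ⊗ₜ[A] v i : Along g ⊗[A] M) = k • ((1 : Along g) ⊗ₜ[A] v i) := by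
          rw [TensorProduct.smul_tmul', smul_eq_mul, mul_one]
        change k ⊗ₜ[A] v i ∈ _
        rw [this]
        exact Submodule.smul_mem _ _ (Submodule.subset_span ⟨i, rfl⟩)
      | zero => simp
      | add m m' _ _ hm hm' =>
        change k ⊗ₜ[A] (m + m') ∈ _
        rw [TensorProduct.tmul_add]
        exact Submodule.add_mem _ hm hm'
      | smul a m _ hm =>
        change k ⊗ₜ[A] (a • m) ∈ _
        rw [TensorProduct.tmul_smul, ← algebraMap_smul (Along g) a]
        exact Submodule.smul_mem _ _ hm

variable [Module.Finite A M]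

/-- Over a field, spanning only depends on the prime. -/
theorem spansAt_field_iff {k : Type u} [Field k] (g : A →+* k) :
    SpansAt v g ↔
      (⟨RingHom.ker g, RingHom.ker_isPrime g⟩ : PrimeSpectrum A) ∉ Module.support A (Coker A v) := by
  rw [spansAt_iff, Module.mem_support_iff_nontrivial_residueField_tensorProduct,
    not_nontrivial_iff_subsingleton]
  let p := RingHom.ker g
  haveI : p.IsPrime := RingHom.ker_isPrime g
  let g' : p.ResidueField →+* Along g :=
    Ideal.ResidueField.lift p g le_rfl fun x hx ↦
      (IsUnit.mem_submonoid_iff _).2 (IsUnit.mk0 (g x) hx)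
  letI := g'.toAlgebra
  haveI : IsScalarTower A p.ResidueField (Along g) := .of_algebraMap_eq fun a ↦
    (Ideal.ResidueField.lift_algebraMap p g _ _ a).symm
  let e := TensorProduct.AlgebraTensorModule.cancelBaseChange A p.ResidueField p.ResidueField
    (Along g) (Coker A v)
  rw [← e.toEquiv.subsingleton_congr]
  constructor
  · intro h
    haveI : Nontrivial (Along g) := inferInstanceAs (Nontrivial k)
    haveI := h
    exact Module.FaithfullyFlat.lTensor_reflects_triviality p.ResidueField (Along g)
      (p.ResidueField ⊗[A] Coker A v)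
  · intro h
    exact inferInstance

variable [Module.Projective A M]

/-- Spanning families of the right length are linearly independent. -/
theorem injective_of_spansAt {K : Type u} [CommRing K] (g : A →+* K) (hs : SpansAt v g)
    (hr : ∀ P : PrimeSpectrum K, Module.rankAtStalk M (P.comap g) = r)
    (c : Fin r → Along g) (hc : ∑ i, c i • ((1 : Along g) ⊗ₜ[A] v i) = 0) : c = 0 := by
  let φ : (Fin r → Along g) →ₗ[Along g] Along g ⊗[A] M :=
    Fintype.linearCombination (Along g) fun i ↦ (1 : Along g) ⊗ₜ[A] v i
  have hφ : Function.Surjective φ := by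
    rw [← LinearMap.range_eq_top, Fintype.range_linearCombination]
    exact hs
  obtain ⟨s, hs'⟩ := Module.projective_lifting_property φ LinearMap.id hφ
  have hsi : Function.Injective s :=
    Function.LeftInverse.injective (g := φ) fun x ↦ LinearMap.congr_fun hs' x
  haveI : Module.Finite (Along g) (LinearMap.ker φ) := by
    let q : (Fin r → Along g) →ₗ[Along g] LinearMap.ker φ :=
      (LinearMap.id - s ∘ₗ φ).codRestrict _ fun x ↦ by
        rw [LinearMap.mem_ker, LinearMap.sub_apply, map_sub, LinearMap.comp_apply,
          show φ (s (φ x)) = φ x from LinearMap.congr_fun hs' (φ x)]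
        simp
    exact Module.Finite.of_surjective q fun x ↦ ⟨x.1, Subtype.ext (by
      change x.1 - s (φ x.1) = x.1
      rw [LinearMap.mem_ker.1 x.2, map_zero, sub_zero])⟩
  let E : (Fin r → Along g) ≃ₗ[Along g] (LinearMap.ker φ) × (Along g ⊗[A] M) :=
    { toFun := fun x ↦ (⟨x - s (φ x), by
        rw [LinearMap.mem_ker, map_sub, show φ (s (φ x)) = φ x from LinearMap.congr_fun hs' (φ x),
          sub_self]⟩, φ x)
      map_add' := fun x y ↦ by
        ext <;> simp [add_sub_add_comm]
      map_smul' := fun a x ↦ by
        ext <;> simp [mul_sub]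
      invFun := fun y ↦ y.1.1 + s y.2
      left_inv := fun x ↦ by simp
      right_inv := fun y ↦ by
        have h1 : φ (s y.2) = y.2 := LinearMap.congr_fun hs' y.2
        have h2 : φ y.1.1 = 0 := LinearMap.mem_ker.1 y.1.2
        refine Prod.ext (Subtype.ext ?_) ?_ <;> simp [h1, h2] }
  haveI : Module.Projective (Along g) (LinearMap.ker φ) :=
    Module.Projective.of_split (E.symm.toLinearMap ∘ₗ LinearMap.inl _ _ _)
      (LinearMap.fst _ _ _ ∘ₗ E.toLinearMap) (by ext x; simp)
  have hz : Module.rankAtStalk (R := Along g) (LinearMap.ker φ) = 0 := by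
    funext P
    have h1 := congrFun (Module.rankAtStalk_eq_of_equiv E) P
    rw [Module.rankAtStalk_prod, Pi.add_apply, Module.rankAtStalk_baseChange] at h1
    have h2 : Module.rankAtStalk (R := Along g) (Fin r → Along g) P = r := by
      haveI : Nontrivial (Along g) := P.nontrivial
      simp
    have h3 : Module.rankAtStalk M (P.comap (algebraMap A (Along g))) = r := hr P
    rw [h2, h3] at h1
    change _ = 0
    omega
  haveI := (Module.rankAtStalk_eq_zero_iff_subsingleton).1 hz
  have : (⟨c, by simpa [φ, Fintype.linearCombination_apply] using hc⟩ : LinearMap.ker φ) = 0 :=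
    Subsingleton.elim _ _
  exact congrArg Subtype.val this

end Span

end Groth.Agent.Lib.GrpdQuot
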