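import Mathlib.AlgebraicGeometry.Morphisms.Finite
import Mathlib.AlgebraicGeometry.Morphisms.QuasiFinite
import Mathlib.AlgebraicGeometry.Morphisms.Flat
import Mathlib.AlgebraicGeometry.Morphisms.FinitePresentation
import Mathlib.RingTheory.Finiteness.ModuleFinitePresentation
import Mathlib.RingTheory.Flat.EquationalCriterion
import Groth.Prelude.Def_Grpd
import Groth.Agent.Lib.GrpdQuot.Fibre

/-!
# Orbits of a finite locally free groupoid and invariant affine opens
-/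

universe u

open CategoryTheory CategoryTheory.Limits AlgebraicGeometry

namespace Groth.Agent.Lib.GrpdQuot

variable {S : Scheme.{u}} (G : Grpd.GroupoidScheme S)

/-- Arrows can be composed on the level of points. -/
theorem exists_comp_point (r₁ r₂ : G.R) (h : G.s r₁ = G.t r₂) :
    ∃ r : G.R, G.t r = G.t r₁ ∧ G.s r = G.s r₂ := by
  obtain ⟨z, hz₁, hz₂⟩ := Scheme.Pullback.exists_preimage_pullback r₁ r₂ h
  have e : pullback.lift (pullback.fst G.s G.t) (pullback.snd G.s G.t) pullback.condition =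
      𝟙 (pullback G.s G.t) := pullback.hom_ext (by simp) (by simp)
  have ht := G.comp_t (pullback.fst G.s G.t) (pullback.snd G.s G.t) pullback.condition
  have hs := G.comp_s (pullback.fst G.s G.t) (pullback.snd G.s G.t) pullback.condition
  rw [e, Category.id_comp] at ht hs
  refine ⟨G.c z, ?_, ?_⟩
  · rw [← Scheme.Hom.comp_apply, ht, Scheme.Hom.comp_apply, hz₁]
  · rw [← Scheme.Hom.comp_apply, hs, Scheme.Hom.comp_apply, hz₂]

theorem t_e_apply (x : G.U) : G.t (G.e x) = x := by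
  rw [← Scheme.Hom.comp_apply, G.e_t]; rfl

theorem s_e_apply (x : G.U) : G.s (G.e x) = x := by
  rw [← Scheme.Hom.comp_apply, G.e_s]; rfl

theorem t_i_apply (r : G.R) : G.t (G.i r) = G.s r := by
  rw [← Scheme.Hom.comp_apply, G.i_t]

theorem s_i_apply (r : G.R) : G.s (G.i r) = G.t r := by
  rw [← Scheme.Hom.comp_apply, G.i_s]

/-- The points whose orbit lies in an open set. -/
def core (W : G.U.Opens) : Set G.U := {x | ∀ r : G.R, G.s r = x → G.t r ∈ W}

theorem core_subset (W : G.U.Opens) : core G W ⊆ W := fun x hx ↦ by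
  simpa [t_e_apply] using hx (G.e x) (s_e_apply G x)

theorem mem_core_iff_of_arrow (W : G.U.Opens) (r : G.R) :
    G.s r ∈ core G W ↔ G.t r ∈ core G W := by
  constructor <;> intro h r' hr'
  · obtain ⟨r'', ht, hs⟩ := exists_comp_point G r' r hr'
    exact ht ▸ h r'' hs
  · obtain ⟨r'', ht, hs⟩ := exists_comp_point G r' (G.i r) (hr'.trans (t_i_apply G r).symm)
    exact ht ▸ h r'' (hs.trans (s_i_apply G r))

theorem isOpen_core [IsFinite G.s] (W : G.U.Opens) : IsOpen (core G W) := by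
  have e : core G W = (G.s '' (G.t ⁻¹' (W : Set G.U))ᶜ)ᶜ := by
    ext x
    simp only [core, Set.mem_setOf_eq, Set.mem_compl_iff, Set.mem_image, Set.mem_preimage,
      SetLike.mem_coe, not_exists, not_and]
    exact ⟨fun h r hr hx ↦ hr (h r hx), fun h r hx ↦ by_contra fun hr ↦ h r hr hx⟩
  rw [e, isOpen_compl_iff]
  exact G.s.isClosedMap _ ((W.2.preimage G.t.continuous).isClosed_compl)

theorem isInvariant_core [IsFinite G.s] (W : G.U.Opens) :
    G.s ⁻¹ᵁ ⟨core G W, isOpen_core G W⟩ = G.t ⁻¹ᵁ ⟨core G W, isOpen_core G W⟩ :=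
  TopologicalSpace.Opens.ext (Set.ext (mem_core_iff_of_arrow G W))

/-- Finitely many points in an open subset of an affine open lie in one basic open inside it. -/
theorem exists_basicOpen_le_of_finite {X : Scheme.{u}} {V W : X.Opens} (hV : IsAffineOpen V)
    (O : Set X) (hO : O.Finite) (hOW : O ⊆ W) (hOV : O ⊆ V) :
    ∃ f : Γ(X, V), X.basicOpen f ≤ W ∧ O ⊆ X.basicOpen f := by
  classical
  obtain ⟨I, hI⟩ := (PrimeSpectrum.isClosed_iff_zeroLocus_ideal _).1
    (hV.fromSpec ⁻¹ᵁ W).2.isClosed_compl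
  let P : O → PrimeSpectrum Γ(X, V) := fun x ↦ hV.primeIdealOf ⟨x, hOV x.2⟩
  haveI := hO.fintype
  have havoid : ¬ ((I : Set Γ(X, V)) ⊆
      ⋃ x ∈ ((Finset.univ : Finset O) : Set O), ((P x).asIdeal : Set Γ(X, V))) := by
    intro hsub
    rcases isEmpty_or_nonempty O with hE | ⟨⟨x₀⟩⟩
    · simpa using hsub I.zero_mem
    · rw [Ideal.subset_union_prime x₀ x₀ (fun x _ _ _ ↦ (P x).2)] at hsub
      obtain ⟨x, -, hle⟩ := hsub
      have h1 : P x ∈ (hV.fromSpec ⁻¹ᵁ W).carrierᶜ := by rw [hI]; exact hle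
      apply h1
      change hV.fromSpec (hV.primeIdealOf ⟨x, hOV x.2⟩) ∈ W
      rw [hV.fromSpec_primeIdealOf]
      exact hOW x.2
  obtain ⟨f, hf, hfn⟩ := Set.not_subset.1 havoid
  refine ⟨f, fun x hx ↦ ?_, fun x hx ↦ ?_⟩
  · obtain ⟨p, rfl⟩ : x ∈ Set.range hV.fromSpec := by
      rw [hV.range_fromSpec]; exact X.basicOpen_le f hx
    have hp : p ∈ PrimeSpectrum.basicOpen f := by
      rw [← hV.fromSpec_preimage_basicOpen]; exact hx
    by_contra hW
    have h1 : p ∈ (hV.fromSpec ⁻¹ᵁ W).carrierᶜ := hW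
    rw [hI] at h1
    exact hp (h1 hf)
  · have hp : P ⟨x, hx⟩ ∈ PrimeSpectrum.basicOpen f := fun h ↦
      hfn (Set.mem_biUnion (Finset.mem_coe.2 (Finset.mem_univ (⟨x, hx⟩ : O))) h)
    rw [← hV.fromSpec_preimage_basicOpen] at hp
    change hV.fromSpec (hV.primeIdealOf ⟨x, hOV hx⟩) ∈ X.basicOpen f at hp
    rwa [hV.fromSpec_primeIdealOf] at hp

/-- The core of a basic open of an affine open is a basic open, as long as everything related to it
stays inside the affine open. -/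
theorem isAffineOpen_core [IsFinite G.s] [Flat G.s] [LocallyOfFinitePresentation G.s]
    {V : G.U.Opens} (hV : IsAffineOpen V) (f : Γ(G.U, V))
    (hle : (G.U.basicOpen f : Set G.U) ⊆ core G V) :
    IsAffineOpen (⟨core G (G.U.basicOpen f), isOpen_core G _⟩ : G.U.Opens) := by
  let Ω : G.U.Opens := G.U.basicOpen f
  have hΩ : IsAffineOpen Ω := hV.basicOpen f
  let T : G.R.Opens := G.s ⁻¹ᵁ Ω
  have hT : IsAffineOpen T := hΩ.preimage G.s
  have hTV : T ≤ G.t ⁻¹ᵁ V := fun r hr ↦ hle hr r rfl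
  let σ₀ : Γ(G.U, Ω) →+* Γ(G.R, T) := (G.s.appLE Ω T le_rfl).hom
  letI := σ₀.toAlgebra
  haveI : Module.Finite Γ(G.U, Ω) Γ(G.R, T) := by
    have := IsFinite.finite_app (f := G.s) (U := Ω) hΩ
    rwa [← Scheme.Hom.appLE_eq_app] at this
  haveI : Module.Flat Γ(G.U, Ω) Γ(G.R, T) := G.s.flat_appLE hΩ hT le_rfl
  haveI : Algebra.FinitePresentation Γ(G.U, Ω) Γ(G.R, T) :=
    G.s.finitePresentation_appLE hΩ hT le_rfl
  haveI : Module.FinitePresentation Γ(G.U, Ω) Γ(G.R, T) :=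
    Module.FinitePresentation.of_finite_of_finitePresentation _ _
  haveI : Module.Projective Γ(G.U, Ω) Γ(G.R, T) := Module.Flat.projective_of_finitePresentation
  obtain ⟨D⟩ := DualBasis.exists_dualBasis (A := Γ(G.U, Ω)) (P := Γ(G.R, T))
  let h : Γ(G.R, T) := G.t.appLE V T hTV f
  have hh : G.R.basicOpen h = T ⊓ G.t ⁻¹ᵁ Ω := Scheme.basicOpen_appLE ..
  let g : Γ(G.U, Ω) := D.nrm (LinearMap.mulLeft _ h)
  have key : ∀ p : Spec Γ(G.U, Ω),
      hΩ.fromSpec p ∈ G.U.basicOpen g ↔ hΩ.fromSpec p ∈ core G Ω := fun p ↦ by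
    change p ∈ hΩ.fromSpec ⁻¹ᵁ G.U.basicOpen g ↔ _
    rw [hΩ.fromSpec_preimage_basicOpen]
    change g ∉ p.asIdeal ↔ _
    rw [nrm_mem_iff D h p.asIdeal]
    have hs : ∀ P : Spec Γ(G.R, T), G.s (hT.fromSpec P) =
        hΩ.fromSpec (PrimeSpectrum.comap σ₀ P) := fun P ↦ by
      rw [← Scheme.Hom.comp_apply, ← IsAffineOpen.SpecMap_appLE_fromSpec G.s hΩ hT le_rfl]
      rfl
    have hmem : ∀ P : Spec Γ(G.R, T), h ∉ P.asIdeal ↔ G.t (hT.fromSpec P) ∈ Ω := fun P ↦ by
      have e : P ∈ PrimeSpectrum.basicOpen h ↔ hT.fromSpec P ∈ G.R.basicOpen h := by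
        rw [← hT.fromSpec_preimage_basicOpen]; rfl
      refine e.trans ?_
      rw [hh]
      have : hT.fromSpec P ∈ T := by
        rw [← SetLike.mem_coe, ← hT.range_fromSpec]; exact ⟨P, rfl⟩
      exact ⟨fun hm ↦ hm.2, fun hm ↦ ⟨this, hm⟩⟩
    constructor
    · intro hne r hr
      obtain ⟨P, rfl⟩ : r ∈ Set.range hT.fromSpec := by
        rw [hT.range_fromSpec]
        change G.s r ∈ Ω
        rw [hr, ← SetLike.mem_coe, ← hΩ.range_fromSpec]
        exact ⟨p, rfl⟩
      refine (hmem P).1 fun hP ↦ hne ⟨P.asIdeal, P.2, ?_, hP⟩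
      exact congrArg PrimeSpectrum.asIdeal
        (hΩ.fromSpec.isOpenEmbedding.injective ((hs P).symm.trans hr))
    · rintro hcore ⟨P, hP, hPp, hhP⟩
      refine (hmem ⟨P, hP⟩).2 (hcore _ ?_) hhP
      rw [hs]
      exact congrArg hΩ.fromSpec (PrimeSpectrum.ext hPp)
  convert hΩ.basicOpen g using 1
  ext x
  constructor
  · intro hx
    obtain ⟨p, rfl⟩ : x ∈ Set.range hΩ.fromSpec := by
      rw [hΩ.range_fromSpec]; exact core_subset G Ω hx
    exact (key p).2 hx
  · intro hx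
    obtain ⟨p, rfl⟩ : x ∈ Set.range hΩ.fromSpec := by
      rw [hΩ.range_fromSpec]; exact G.U.basicOpen_le g hx
    exact (key p).1 hx

/-- Every orbit inside an affine open has an invariant affine open neighbourhood. -/
theorem exists_invariant_affineOpen [IsFinite G.s] [Flat G.s] [LocallyOfFinitePresentation G.s]
    (u : G.U) (V : G.U.Opens) (hV : IsAffineOpen V) (huV : ∀ r : G.R, G.s r = u → G.t r ∈ V) :
    ∃ W : G.U.Opens, IsAffineOpen W ∧ W ≤ V ∧ u ∈ W ∧ G.s ⁻¹ᵁ W = G.t ⁻¹ᵁ W := by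
  let W₁ : G.U.Opens := ⟨core G V, isOpen_core G V⟩
  let O : Set G.U := G.t '' (G.s ⁻¹' {u})
  have hO : O.Finite := (G.s.finite_preimage_singleton u).image _
  have hOW : O ⊆ W₁ := by
    rintro _ ⟨r, rfl, rfl⟩
    exact (mem_core_iff_of_arrow G V r).1 huV
  obtain ⟨f, hfW, hfO⟩ :=
    exists_basicOpen_le_of_finite hV O hO hOW (hOW.trans (core_subset G V))
  exact ⟨⟨core G (G.U.basicOpen f), isOpen_core G _⟩, isAffineOpen_core G hV f hfW,
    (core_subset G _).trans (G.U.basicOpen_le f),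
    fun r hr ↦ hfO ⟨r, hr, rfl⟩, isInvariant_core G _⟩

end Groth.Agent.Lib.GrpdQuot
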