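import Mathlib.RingTheory.Ideal.Operations
import Mathlib.RingTheory.Localization.Away.Basic
import Mathlib.RingTheory.IntegralClosure.IsIntegralClosure.Basic
import Mathlib.RingTheory.Spectrum.Prime.Topology
import Mathlib.RingTheory.Polynomial.Basic
import Groth.Agent.Lib.GrpdQuot.DualBasis

/-!
# Rings with a translation structure (affine groupoids), and their invariants

`σ = algebraMap A B` plays the role of `s♯` and `τ` the role of `t♯`; `trans` says that for
every point `β` of `R` the two fibres of `s` over `t β` and `s β` are identified compatibly with `t`.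
-/

universe u

open scoped TensorProduct
open Polynomial

namespace Groth.Agent.Lib.GrpdQuot

variable {A B : Type u} [CommRing A] [CommRing B] [Algebra A B]

/-- A translation structure on `σ, τ : A → B`. -/
structure TransAlg (A B : Type u) [CommRing A] [CommRing B] [Algebra A B] where
  /-- the target map -/
  τ : A →+* B
  /-- the unit -/
  e : B →ₐ[A] A
  e_τ : ∀ a, e (τ a) = a
  /-- translation -/
  θ : ∀ {K : Type u} [CommRing K] (β : B →+* K),
    Along (β.comp (algebraMap A B)) ⊗[A] B ≃ₐ[K] Along (β.comp τ) ⊗[A] B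
  θ_τ : ∀ {K : Type u} [CommRing K] (β : B →+* K) (a : A),
    θ β (1 ⊗ₜ τ a) = 1 ⊗ₜ τ a

namespace TransAlg

variable (G : TransAlg A B)

/-- The invariants. -/
def inv : Subring A := RingHom.eqLocus (algebraMap A B) G.τ

theorem mem_inv {a : A} : a ∈ G.inv ↔ algebraMap A B a = G.τ a := Iff.rfl

/-- Multiplication by `τ a`. -/
noncomputable def mulτ (a : A) : Module.End A B := LinearMap.mulLeft A (G.τ a)

theorem mulτ_mul (a b : A) : G.mulτ (a * b) = G.mulτ a * G.mulτ b := by
  ext x
  simp [mulτ, mul_assoc]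

/-- Multiplication by `τ a` after base change. -/
noncomputable def mulτAlong {K : Type u} [CommRing K] (f : A →+* K) (a : A) :
    Module.End K (Along f ⊗[A] B) :=
  LinearMap.mulLeft K (1 ⊗ₜ G.τ a)

theorem mulτAlong_tmul {K : Type u} [CommRing K] (f : A →+* K) (a : A) (p : B) :
    G.mulτAlong f a (1 ⊗ₜ p) = 1 ⊗ₜ G.mulτ a p := by
  simp [mulτAlong, mulτ]

theorem mulτAlong_θ {K : Type u} [CommRing K] (β : B →+* K) (a : A)
    (x : Along (β.comp (algebraMap A B)) ⊗[A] B) :
    G.mulτAlong (β.comp G.τ) a (G.θ β x) =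
      G.θ β (G.mulτAlong (β.comp (algebraMap A B)) a x) := by
  simp [mulτAlong, G.θ_τ]

variable (D : DualBasis A B)

/-- The transported dual basis over `K`. -/
noncomputable def alongθ {K : Type u} [CommRing K] (β : B →+* K) :
    DualBasis K (Along (β.comp G.τ) ⊗[A] B) :=
  (D.along (β.comp (algebraMap A B))).map (G.θ β).toLinearEquiv

theorem mat_alongθ {K : Type u} [CommRing K] (β : B →+* K) (a : A) :
    (G.alongθ D β).mat (G.mulτAlong (β.comp G.τ) a) =
      (D.mat (G.mulτ a)).map (β.comp (algebraMap A B)) :=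
  (DualBasis.mat_map _ (G.θ β).toLinearEquiv _ _ (G.mulτAlong_θ β a)).trans
    (D.mat_along _ _ _ (G.mulτAlong_tmul _ a))

include D in
/-- Every element of `A` is integral over the invariants. -/
theorem isIntegral (f : A) : IsIntegral G.inv f := by
  let P := (D.mat (G.mulτ f)).charpoly
  have hP : ∀ k, P.coeff k ∈ G.inv := fun k ↦ by
    have h1 := (D.along ((RingHom.id B).comp G.τ)).charpoly_eq
      (G.alongθ D (RingHom.id B)) rfl (G.mulτAlong ((RingHom.id B).comp G.τ) f)
    rw [G.mat_alongθ, D.mat_along _ _ _ (G.mulτAlong_tmul _ f)] at h1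
    have h2 := congrArg (fun p ↦ Polynomial.coeff p k)
      ((Matrix.charpoly_map (D.mat (G.mulτ f)) ((RingHom.id B).comp G.τ)).symm.trans
        (h1.trans (Matrix.charpoly_map (D.mat (G.mulτ f))
          ((RingHom.id B).comp (algebraMap A B)))))
    simp only [Polynomial.coeff_map, RingHom.id_comp] at h2
    exact h2.symm
  have key : ∀ p : A[X], G.e ((aeval (G.mulτ f) p) 1) = p.eval f := fun p ↦ by
    induction p using Polynomial.induction_on' with
    | add p q hp hq => simp [hp, hq]
    | monomial k c =>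
      rw [aeval_monomial, ← Algebra.smul_def, LinearMap.smul_apply, map_smul, eval_monomial,
        smul_eq_mul]
      congr 1
      induction k with
      | zero => simp
      | succ k ih =>
        rw [pow_succ', Module.End.mul_apply, pow_succ']
        change G.e (G.τ f * _) = _
        rw [map_mul, G.e_τ, ih]
  have h0 : P.eval f = 0 := by
    rw [← key, D.aeval_charpoly_eq_zero]
    simp
  have hrange : P ∈ Polynomial.lifts (algebraMap G.inv A) := by
    rw [Polynomial.lifts_iff_coeff_lifts]
    exact fun k ↦ ⟨⟨_, hP k⟩, rfl⟩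
  obtain ⟨Q, hQ, -, hQm⟩ :=
    Polynomial.lifts_and_natDegree_eq_and_monic hrange (Matrix.charpoly_monic _)
  refine ⟨Q, hQm, ?_⟩
  rw [Polynomial.eval₂_eq_eval_map, hQ]
  exact h0

include D in
theorem isIntegral_inv : Algebra.IsIntegral G.inv A := ⟨G.isIntegral D⟩

/-! ### Norms with parameters -/

/-- Multiplication by `∑ w l • τ (a l)` after base change. -/
noncomputable def lin {K : Type u} [CommRing K] (f : A →+* K) {m : ℕ} (a : Fin m → A)
    (w : Fin m → K) : Module.End K (Along f ⊗[A] B) :=
  ∑ l, w l • G.mulτAlong f (a l)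

/-- The matrix whose determinant is the norm of `∑ w l • τ (a l)`. -/
noncomputable def normMat {K : Type u} [CommRing K] (f : A →+* K) {m : ℕ} (a : Fin m → A)
    (w : Fin m → K) : Matrix (Fin D.n) (Fin D.n) K :=
  1 + (∑ l, w l • (D.mat (G.mulτ (a l))).map f - (D.mat 1).map f)

theorem mat_sum {P : Type u} [AddCommGroup P] [Module A P] (D' : DualBasis A P) {ι : Type*}
    (s : Finset ι) (φ : ι → Module.End A P) :
    D'.mat (∑ i ∈ s, φ i) = ∑ i ∈ s, D'.mat (φ i) := by
  classical
  induction s using Finset.induction_on with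
  | empty => simp
  | insert i s hi ih => rw [Finset.sum_insert hi, Finset.sum_insert hi, D'.mat_add, ih]

theorem nrm_along {K : Type u} [CommRing K] (f : A →+* K) {m : ℕ} (a : Fin m → A)
    (w : Fin m → K) : (D.along f).nrm (G.lin f a w) = (G.normMat D f a w).det := by
  rw [DualBasis.nrm, normMat, DualBasis.mat_sub, lin, mat_sum]
  congr 3
  · exact Finset.sum_congr rfl fun l _ ↦ by
      rw [DualBasis.mat_smul]
      exact congrArg (w l • ·) (D.mat_along _ _ _ (G.mulτAlong_tmul _ (a l)))
  · exact D.mat_along _ _ _ fun _ ↦ rfl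

/-- The norm with polynomial parameters. -/
noncomputable def normPoly {m : ℕ} (a : Fin m → A) : MvPolynomial (Fin m) A :=
  (G.normMat D MvPolynomial.C a MvPolynomial.X).det

theorem eval_normPoly {K : Type u} [CommRing K] (g : A →+* K) {m : ℕ} (a : Fin m → A)
    (w : Fin m → K) :
    MvPolynomial.eval₂ g w (G.normPoly D a) = (G.normMat D g a w).det := by
  rw [normPoly, ← MvPolynomial.coe_eval₂Hom, RingHom.map_det]
  congr 1
  ext i j
  simp [normMat, Matrix.sum_apply, Matrix.one_apply, apply_ite]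

theorem normPoly_coeff_mem {m : ℕ} (a : Fin m → A) (d : Fin m →₀ ℕ) :
    (G.normPoly D a).coeff d ∈ G.inv := by
  let β : B →+* MvPolynomial (Fin m) B := MvPolynomial.C
  have key : MvPolynomial.eval₂ (β.comp (algebraMap A B)) MvPolynomial.X (G.normPoly D a) =
      MvPolynomial.eval₂ (β.comp G.τ) MvPolynomial.X (G.normPoly D a) := by
    rw [G.eval_normPoly D, G.eval_normPoly D, ← G.nrm_along D, ← G.nrm_along D,
      DualBasis.nrm_eq (D.along (β.comp G.τ)) (G.alongθ D β)]
    rw [DualBasis.nrm, DualBasis.nrm]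
    congr 1
    congr 1
    symm
    refine DualBasis.mat_map _ _ _ _ fun x ↦ ?_
    simp only [lin, LinearMap.sub_apply, LinearMap.sum_apply, LinearMap.smul_apply, map_sub,
      map_sum, map_smul, AlgEquiv.toLinearEquiv_apply, G.mulτAlong_θ, Module.End.one_apply]
  have := congrArg (MvPolynomial.coeff d) key
  have h : ∀ g : A →+* B, MvPolynomial.coeff d (MvPolynomial.eval₂ ((MvPolynomial.C).comp g)
      MvPolynomial.X (G.normPoly D a) : MvPolynomial (Fin m) B) =
      g ((G.normPoly D a).coeff d) := fun g ↦ by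
    rw [← MvPolynomial.coeff_map g, ← MvPolynomial.eval₂_map, MvPolynomial.eval₂_eta]
  rwa [h, h] at this

theorem eval_normPoly_eq {K : Type u} [CommRing K] (g g' : A →+* K)
    (h : ∀ c ∈ G.inv, g c = g' c) {m : ℕ} (a : Fin m → A) (w : Fin m → K) :
    (G.normMat D g a w).det = (G.normMat D g' a w).det := by
  rw [← G.eval_normPoly D, ← G.eval_normPoly D, MvPolynomial.eval₂_eq', MvPolynomial.eval₂_eq']
  exact Finset.sum_congr rfl fun d _ ↦ by rw [h _ (G.normPoly_coeff_mem D a d)]

theorem lift_lin {K : Type u} [CommRing K] (g : A →+* K) (β : B →+* K)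
    (hβ : β.comp (algebraMap A B) = g) {m : ℕ} (a : Fin m → A) (w : Fin m → K) :
    ∃ F : (Along g ⊗[A] B) →ₐ[K] K, (∀ b, F (1 ⊗ₜ b) = β b) ∧
      ∀ q, F (G.lin g a w q) = (∑ l, w l * β (G.τ (a l))) * F q := by
  subst hβ
  let βA : B →ₐ[A] Along (β.comp (algebraMap A B)) := { β with commutes' := fun _ ↦ rfl }
  let idK : Along (β.comp (algebraMap A B)) →ₐ[K] Along (β.comp (algebraMap A B)) := AlgHom.id _ _
  let F₀ := Algebra.TensorProduct.lift (R := A)
    (AlgHom.id A (Along (β.comp (algebraMap A B)))) βA fun _ _ ↦ mul_comm _ _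
  let F : (Along (β.comp (algebraMap A B)) ⊗[A] B) →ₐ[K] K :=
    { toRingHom := (F₀.toRingHom : _ →+* Along (β.comp (algebraMap A B)))
      commutes' := fun k ↦ by
        change F₀ (k ⊗ₜ[A] (1 : B)) = k
        simp [F₀] }
  have hF : ∀ b, F (1 ⊗ₜ b) = β b := fun b ↦ by
    change F₀ (1 ⊗ₜ b) = β b
    simp [F₀]
    rfl
  refine ⟨F, hF, fun q ↦ ?_⟩
  simp only [lin, LinearMap.sum_apply, LinearMap.smul_apply, map_sum, map_smul, mulτAlong,
    LinearMap.mulLeft_apply, map_mul, hF, smul_eq_mul, Finset.sum_mul, mul_assoc]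

/-- The norm vanishes if the element vanishes at some point of the fibre. -/
theorem normMat_det_eq_zero {K : Type u} [CommRing K] (g : A →+* K) (β : B →+* K)
    (hβ : β.comp (algebraMap A B) = g) {m : ℕ} (a : Fin m → A) (w : Fin m → K)
    (hz : ∑ l, w l * β (G.τ (a l)) = 0) : (G.normMat D g a w).det = 0 := by
  obtain ⟨F, hF, hlin⟩ := G.lift_lin g β hβ a w
  rw [← G.nrm_along D]
  exact DualBasis.nrm_eq_zero_of_functional _ F.toLinearMap 1 (map_one F) fun q ↦ by
    simp [hlin, hz]

/-- Over a field, the norm is non-zero if the element vanishes nowhere on the fibre. -/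
theorem normMat_det_ne_zero {k : Type u} [Field k] (g : A →+* k) {m : ℕ} (a : Fin m → A)
    (w : Fin m → k)
    (hz : ∀ I : Ideal (Along g ⊗[A] B), I.IsMaximal →
      ∑ l, w l • ((1 : Along g) ⊗ₜ[A] G.τ (a l)) ∉ I) :
    (G.normMat D g a w).det ≠ 0 := by
  rw [← G.nrm_along D]
  refine IsUnit.ne_zero (DualBasis.nrm_isUnit _ ?_)
  let z : Along g ⊗[A] B := ∑ l, w l • ((1 : Along g) ⊗ₜ[A] G.τ (a l))
  have : IsUnit z := by
    by_contra hn
    obtain ⟨I, hI, hmem⟩ := exists_max_ideal_of_mem_nonunits hn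
    exact hz I hI hmem
  have e : G.lin g a w = Algebra.lmul k _ z := LinearMap.ext fun q ↦ by
    simp [z, lin, mulτAlong]
  rw [e]
  exact this.map _

end TransAlg

end Groth.Agent.Lib.GrpdQuot
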