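import Mathlib.RingTheory.Ideal.GoingUp
import Mathlib.RingTheory.Jacobson.Ring
import Mathlib.FieldTheory.IsAlgClosed.Basic
import Mathlib.RingTheory.Ideal.Quotient.Operations
import Mathlib.RingTheory.QuasiFinite.Basic
import Groth.Agent.Lib.GrpdQuot.Trans
import Groth.Agent.Lib.GrpdQuot.Fibre

/-!
# Orbits of an affine groupoid

* two primes of `A` have the same invariant trace iff some prime of `B` connects them;
* the same for points with values in an algebraically closed field;
* an invariant function cutting out a neighbourhood on which given elements form a basis.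
-/

universe u

open scoped TensorProduct

namespace Groth.Agent.Lib.GrpdQuot

namespace TransAlg

variable {A B : Type u} [CommRing A] [CommRing B] [Algebra A B] (G : TransAlg A B)
  (D : DualBasis A B)

/-- The norm of `τ f`. -/
noncomputable def norm (f : A) : A := D.nrm (G.mulτ f)

theorem norm_mem_iff (f : A) (p : Ideal A) [p.IsPrime] :
    G.norm D f ∈ p ↔ ∃ P : Ideal B, P.IsPrime ∧ P.comap (algebraMap A B) = p ∧ G.τ f ∈ P :=
  nrm_mem_iff D (G.τ f) p

theorem normMat_det_one (f : A) :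
    (G.normMat D (RingHom.id A) ![f] ![1]).det = G.norm D f := by
  rw [norm, DualBasis.nrm, normMat, DualBasis.mat_sub]
  simp

theorem norm_mem (f : A) : G.norm D f ∈ G.inv := by
  have h := G.eval_normPoly D (RingHom.id A) ![f] ![1]
  rw [G.normMat_det_one] at h
  rw [← h, MvPolynomial.eval₂_eq']
  refine Subring.sum_mem _ fun d _ ↦ Subring.mul_mem _ (G.normPoly_coeff_mem D _ d) ?_
  refine Subring.prod_mem _ fun i _ ↦ Subring.pow_mem _ ?_ _
  have : (![1] : Fin 1 → A) i = 1 := by simp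
  rw [this]
  exact Subring.one_mem _

theorem norm_mem_of_mem {f : A} {q : Ideal A} [q.IsPrime] (h : f ∈ q) : G.norm D f ∈ q := by
  refine (G.norm_mem_iff D f q).2 ⟨q.comap G.e.toRingHom, inferInstance, ?_, ?_⟩
  · ext a
    simp
  · change G.e (G.τ f) ∈ q
    rwa [G.e_τ]

theorem comap_inv_eq_of_prime (P : Ideal B) :
    (P.comap G.τ).comap (algebraMap G.inv A) =
      (P.comap (algebraMap A B)).comap (algebraMap G.inv A) := by
  ext c
  simp only [Ideal.mem_comap]
  rw [← show algebraMap A B (algebraMap G.inv A c) = G.τ (algebraMap G.inv A c) from c.2]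

/-- The orbit of a prime is finite. -/
theorem finite_primes_over [Module.Finite A B] (p : Ideal A) [p.IsPrime] :
    {P : Ideal B | P.IsPrime ∧ P.comap (algebraMap A B) = p}.Finite := by
  refine (Algebra.QuasiFinite.finite_primesOver (S := B) p).subset ?_
  rintro P ⟨hP, rfl⟩
  exact ⟨hP, ⟨rfl⟩⟩

include D in
/-- Two primes with the same invariant trace are in the same orbit. -/
theorem exists_prime_between [Module.Finite A B] (p p' : Ideal A) [p.IsPrime] [p'.IsPrime]
    (h : p.comap (algebraMap G.inv A) = p'.comap (algebraMap G.inv A)) :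
    ∃ P : Ideal B, P.IsPrime ∧ P.comap (algebraMap A B) = p ∧ P.comap G.τ = p' := by
  by_contra hne
  haveI : Algebra.IsIntegral G.inv A := G.isIntegral_inv D
  let F := (finite_primes_over (B := B) p).toFinset
  have havoid : ¬ ((p' : Set A) ⊆ ⋃ P ∈ (F : Set (Ideal B)), (P.comap G.τ : Set A)) := by
    rw [Ideal.subset_union_prime ⊥ ⊥ (fun P hP _ _ ↦ by
      have := ((finite_primes_over (B := B) p).mem_toFinset.1 hP).1
      exact Ideal.IsPrime.comap G.τ)]
    rintro ⟨P, hP, hle⟩
    obtain ⟨hPp, hPc⟩ := (finite_primes_over (B := B) p).mem_toFinset.1 hP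
    haveI := hPp
    rcases hle.lt_or_eq with hlt | heq
    · obtain ⟨hle', z, hzJ, hzI⟩ := SetLike.lt_iff_le_and_exists.1 hlt
      refine (Ideal.comap_lt_comap_of_integral_mem_sdiff (R := G.inv) hle' ⟨hzJ, hzI⟩
        (Algebra.IsIntegral.isIntegral z)).ne ?_
      rw [G.comap_inv_eq_of_prime, hPc, h]
    · exact hne ⟨P, hPp, hPc, heq.symm⟩
  obtain ⟨f, hf, hfn⟩ := Set.not_subset.1 havoid
  have h1 : G.norm D f ∈ p' := G.norm_mem_of_mem D hf
  have h2 : G.norm D f ∈ p := by
    have : (⟨_, G.norm_mem D f⟩ : G.inv) ∈ p'.comap (algebraMap G.inv A) := h1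
    rwa [← h] at this
  obtain ⟨P, hP, hPc, hfP⟩ := (G.norm_mem_iff D f p).1 h2
  exact hfn (Set.mem_biUnion ((finite_primes_over (B := B) p).mem_toFinset.2 ⟨hP, hPc⟩) hfP)

/-- Representing an element of a base change. -/
theorem exists_fin_sum {k : Type u} [CommRing k] (z : k ⊗[ℤ] A) :
    ∃ (m : ℕ) (w : Fin m → k) (a : Fin m → A), z = ∑ l, w l ⊗ₜ[ℤ] a l := by
  obtain ⟨s, hs⟩ := TensorProduct.exists_finset z
  refine ⟨s.card, fun l ↦ (s.equivFin.symm l).1.1, fun l ↦ (s.equivFin.symm l).1.2, ?_⟩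
  rw [hs, ← Finset.sum_coe_sort s]
  exact (s.equivFin.symm.sum_comp fun q ↦ q.1.1 ⊗ₜ[ℤ] q.1.2).symm

include D in
/-- Geometric points with the same image in the invariants are connected. -/
theorem exists_point_between [Module.Finite A B] {k : Type u} [Field k] [IsAlgClosed k]
    (x₀ x₁ : A →+* k) (h : ∀ c ∈ G.inv, x₀ c = x₁ c) :
    ∃ r : B →+* k, r.comp (algebraMap A B) = x₁ ∧ r.comp G.τ = x₀ := by
  classical
  by_contra hne
  let L := Along x₁ ⊗[A] B
  haveI : Module.Finite k L :=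
    inferInstanceAs (Module.Finite (Along x₁) (Along x₁ ⊗[A] B))
  haveI : IsArtinianRing L := IsArtinianRing.of_finite k L
  haveI : Finite (MaximalSpectrum L) := inferInstance
  -- the points of the fibre
  have pts : ∀ I : MaximalSpectrum L, ∃ F : L →ₐ[k] k, RingHom.ker F = I.asIdeal := fun I ↦ by
    haveI := I.isMaximal
    letI := Ideal.Quotient.field I.asIdeal
    have hb : Function.Bijective (algebraMap k (L ⧸ I.asIdeal)) :=
      IsAlgClosed.algebraMap_bijective_of_isIntegral
    let e := AlgEquiv.ofBijective (Algebra.ofId k (L ⧸ I.asIdeal)) hb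
    refine ⟨e.symm.toAlgHom.comp (Ideal.Quotient.mkₐ k I.asIdeal), ?_⟩
    ext z
    simp [RingHom.mem_ker, Ideal.Quotient.eq_zero_iff_mem]
  choose F hF using pts
  let ι : B →+* L :=
    (Algebra.TensorProduct.includeRight (R := A) (A := Along x₁) (B := B)).toRingHom
  let y : MaximalSpectrum L → A →+* k := fun I ↦ ((F I : L →+* k).comp ι).comp G.τ
  have hσ : ∀ (I : MaximalSpectrum L) (a : A), F I (ι (algebraMap A B a)) = x₁ a := fun I a ↦ by
    have : ι (algebraMap A B a) = algebraMap k L (x₁ a) := by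
      change (1 : Along x₁) ⊗ₜ[A] algebraMap A B a = toAlong x₁ (x₁ a) ⊗ₜ[A] (1 : B)
      rw [Algebra.algebraMap_eq_smul_one, ← TensorProduct.smul_tmul, Algebra.smul_def, mul_one]
      rfl
    rw [this, AlgHom.commutes]
    rfl
  have hy : ∀ I, y I ≠ x₀ := fun I e ↦
    hne ⟨(F I : L →+* k).comp ι, RingHom.ext fun a ↦ hσ I a, e⟩
  let lft : (A →+* k) → (k ⊗[ℤ] A →ₐ[k] k) := fun g ↦
    Algebra.TensorProduct.lift (AlgHom.id k k) g.toIntAlgHom fun _ _ ↦ mul_comm _ _
  have hlft : ∀ g a, lft g (1 ⊗ₜ a) = g a := fun g a ↦ by simp [lft]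
  have hinj : ∀ g g', RingHom.ker (lft g) = RingHom.ker (lft g') → g = g' := fun g g' e ↦ by
    refine RingHom.ext fun a ↦ ?_
    have hm : (1 : k) ⊗ₜ[ℤ] a - algebraMap k _ (g a) ∈ RingHom.ker (lft g) := by
      rw [RingHom.mem_ker, map_sub, hlft, AlgHom.commutes]
      exact sub_self _
    rw [e, RingHom.mem_ker, map_sub, hlft, AlgHom.commutes] at hm
    exact (sub_eq_zero.1 hm).symm
  haveI : Fintype (MaximalSpectrum L) := Fintype.ofFinite _
  have havoid : ¬ ((RingHom.ker (lft x₀) : Set (k ⊗[ℤ] A)) ⊆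
      ⋃ I ∈ ((Finset.univ : Finset (MaximalSpectrum L)) : Set (MaximalSpectrum L)),
        (RingHom.ker (lft (y I)) : Set (k ⊗[ℤ] A))) := by
    have hmax : ∀ g, (RingHom.ker (lft g)).IsMaximal := fun g ↦
      RingHom.ker_isMaximal_of_surjective _ fun c ↦ ⟨algebraMap k _ c, AlgHom.commutes _ _⟩
    intro hsub
    rcases isEmpty_or_nonempty (MaximalSpectrum L) with hE | ⟨⟨I₀⟩⟩
    · simpa using hsub (show (0 : k ⊗[ℤ] A) ∈ _ from (RingHom.ker (lft x₀)).zero_mem)
    · rw [Ideal.subset_union_prime I₀ I₀ (fun I _ _ _ ↦ (hmax (y I)).isPrime)] at hsub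
      obtain ⟨I, -, hle⟩ := hsub
      exact hy I (hinj _ _ ((hmax x₀).eq_of_le (hmax (y I)).ne_top hle)).symm
  obtain ⟨z, hz, hzn⟩ := Set.not_subset.1 havoid
  obtain ⟨m, w, a, rfl⟩ := exists_fin_sum z
  have hval : ∀ g, lft g (∑ l, w l ⊗ₜ[ℤ] a l) = ∑ l, w l * g (a l) := fun g ↦ by
    simp [lft]
  have h0 : (G.normMat D x₀ a w).det = 0 :=
    G.normMat_det_eq_zero D x₀ (x₀.comp G.e.toRingHom) (RingHom.ext fun c ↦ by simp) a w (by
      have := RingHom.mem_ker.1 hz
      rw [hval] at this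
      simpa [G.e_τ] using this)
  refine G.normMat_det_ne_zero D x₁ a w (fun I hI hmem ↦ ?_)
    ((G.eval_normPoly_eq D x₁ x₀ (fun c hc ↦ (h c hc).symm) a w).trans h0)
  refine hzn (Set.mem_biUnion (Finset.mem_coe.2 (Finset.mem_univ ⟨I, hI⟩)) ?_)
  rw [SetLike.mem_coe, RingHom.mem_ker, hval]
  have hmem' : (∑ l, w l • ((1 : Along x₁) ⊗ₜ[A] G.τ (a l))) ∈ RingHom.ker (F ⟨I, hI⟩) := by
    rw [hF]; exact hmem
  rw [RingHom.mem_ker, map_sum] at hmem'
  simpa [map_smul, y, ι] using hmem'

/-! ### Bases -/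

variable {r : ℕ} (x : Fin r → A)

theorem spansAt_trans {K : Type u} [CommRing K] (β : B →+* K) :
    SpansAt (fun i ↦ G.τ (x i)) (β.comp (algebraMap A B)) ↔
      SpansAt (fun i ↦ G.τ (x i)) (β.comp G.τ) := by
  let e := (G.θ β).toLinearEquiv
  have he : e.toLinearMap '' (Set.range fun i ↦
      (1 : Along (β.comp (algebraMap A B))) ⊗ₜ[A] G.τ (x i)) =
      Set.range fun i ↦ (1 : Along (β.comp G.τ)) ⊗ₜ[A] G.τ (x i) := by
    rw [← Set.range_comp]
    congr 1
    funext i
    exact G.θ_τ β (x i)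
  have key : (Submodule.span K (Set.range fun i ↦
      (1 : Along (β.comp (algebraMap A B))) ⊗ₜ[A] G.τ (x i))).map e.toLinearMap =
      Submodule.span K (Set.range fun i ↦ (1 : Along (β.comp G.τ)) ⊗ₜ[A] G.τ (x i)) := by
    rw [Submodule.map_span, he]
  unfold SpansAt
  change Submodule.span K _ = ⊤ ↔ Submodule.span K _ = ⊤
  constructor <;> intro h
  · refine key.symm.trans ((congrArg (Submodule.map e.toLinearMap) h).trans ?_)
    exact (Submodule.map_top _).trans (LinearMap.range_eq_top.2 e.surjective)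
  · refine Submodule.map_injective_of_injective (f := e.toLinearMap) e.injective ?_
    exact (key.trans h).trans ((Submodule.map_top _).trans (LinearMap.range_eq_top.2 e.surjective)).symm

variable [Module.Finite A B] [Module.Projective A B]

theorem rankAtStalk_trans (P : PrimeSpectrum B) :
    Module.rankAtStalk B (P.comap G.τ) = Module.rankAtStalk B (P.comap (algebraMap A B)) := by
  let β := algebraMap B P.asIdeal.ResidueField
  have hfr : ∀ g : A →+* P.asIdeal.ResidueField, RingHom.ker g = RingHom.ker g → ∀ q : PrimeSpectrum A,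
      q.asIdeal = RingHom.ker g →
      Module.rankAtStalk B q = Module.finrank (Along g) (Along g ⊗[A] B) := fun g _ q hq ↦ by
    letI : Algebra A P.asIdeal.ResidueField := g.toAlgebra
    let z : PrimeSpectrum P.asIdeal.ResidueField := ⟨⊥, Ideal.isPrime_bot⟩
    have hz : q = z.comap (algebraMap A P.asIdeal.ResidueField) := PrimeSpectrum.ext hq
    rw [hz, ← Module.rankAtStalk_baseChange, Module.rankAtStalk_eq_finrank_of_free]
    rfl
  rw [hfr (β.comp G.τ) rfl _ (by
      rw [PrimeSpectrum.comap_asIdeal, ← RingHom.comap_ker, Ideal.ker_algebraMap_residueField]),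
    hfr (β.comp (algebraMap A B)) rfl _ (by
      rw [PrimeSpectrum.comap_asIdeal, ← RingHom.comap_ker, Ideal.ker_algebraMap_residueField])]
  exact (G.θ β).toLinearEquiv.symm.finrank_eq

include D in
/-- An invariant function cutting out, around a prime, a locus where the `τ (x i)` form a basis. -/
theorem exists_invariant_basis_nhd (p : Ideal A) [p.IsPrime]
    (hspan : SpansAt (fun i ↦ G.τ (x i)) (algebraMap A p.ResidueField))
    (hrank : Module.rankAtStalk B (⟨p, inferInstance⟩ : PrimeSpectrum A) = r) :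
    ∃ N ∈ G.inv, N ∉ p ∧ ∀ q : PrimeSpectrum A, N ∉ q.asIdeal →
      SpansAt (fun i ↦ G.τ (x i)) (algebraMap A q.asIdeal.ResidueField) ∧
        Module.rankAtStalk B q = r := by
  let v : Fin r → B := fun i ↦ G.τ (x i)
  let W : Set (PrimeSpectrum A) :=
    (Module.support A (Coker A v))ᶜ ∩ Module.rankAtStalk B ⁻¹' {r}
  haveI : Module.FinitePresentation A B :=
    Module.finitePresentation_of_projective A B
  have hopen : IsOpen W := by
    refine IsOpen.inter ?_ (Module.isLocallyConstant_rankAtStalk.isOpen_fiber r)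
    rw [isOpen_compl_iff, Module.support_eq_zeroLocus]
    exact PrimeSpectrum.isClosed_zeroLocus _
  have hiff : ∀ {k : Type u} [Field k] (g : A →+* k) (q : PrimeSpectrum A),
      q.asIdeal = RingHom.ker g → (SpansAt v g ↔ q ∉ Module.support A (Coker A v)) := by
    intro k _ g q hq
    rw [spansAt_field_iff]
    have : q = ⟨RingHom.ker g, RingHom.ker_isPrime g⟩ := PrimeSpectrum.ext hq
    rw [this]
  have hinv : ∀ P : PrimeSpectrum B, P.comap (algebraMap A B) ∈ W ↔ P.comap G.τ ∈ W := fun P ↦ by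
    let β := algebraMap B P.asIdeal.ResidueField
    have h1 := hiff (β.comp (algebraMap A B)) (P.comap (algebraMap A B)) (by
      rw [PrimeSpectrum.comap_asIdeal, ← RingHom.comap_ker, Ideal.ker_algebraMap_residueField])
    have h2 := hiff (β.comp G.τ) (P.comap G.τ) (by
      rw [PrimeSpectrum.comap_asIdeal, ← RingHom.comap_ker, Ideal.ker_algebraMap_residueField])
    simp only [W, Set.mem_inter_iff, Set.mem_compl_iff, Set.mem_preimage, Set.mem_singleton_iff]
    rw [← h1, ← h2, G.spansAt_trans x β, G.rankAtStalk_trans]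
  have hp : (⟨p, inferInstance⟩ : PrimeSpectrum A) ∈ W :=
    ⟨(hiff _ _ (Ideal.ker_algebraMap_residueField p).symm).1 hspan, hrank⟩
  obtain ⟨s, hs⟩ := (PrimeSpectrum.isClosed_iff_zeroLocus_ideal _).1 hopen.isClosed_compl
  let F := (finite_primes_over (B := B) p).toFinset
  have havoid : ¬ ((s : Set A) ⊆ ⋃ P ∈ (F : Set (Ideal B)), (P.comap G.τ : Set A)) := by
    rw [Ideal.subset_union_prime ⊥ ⊥ (fun P hP _ _ ↦ by
      have := ((finite_primes_over (B := B) p).mem_toFinset.1 hP).1
      exact Ideal.IsPrime.comap G.τ)]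
    rintro ⟨P, hP, hle⟩
    obtain ⟨hPp, hPc⟩ := (finite_primes_over (B := B) p).mem_toFinset.1 hP
    have hW : (⟨P, hPp⟩ : PrimeSpectrum B).comap G.τ ∈ W := by
      rw [← hinv]
      have : (⟨P, hPp⟩ : PrimeSpectrum B).comap (algebraMap A B) = ⟨p, inferInstance⟩ :=
        PrimeSpectrum.ext hPc
      rwa [this]
    have : (⟨P, hPp⟩ : PrimeSpectrum B).comap G.τ ∈ Wᶜ := by
      rw [hs]
      exact hle
    exact this hW
  obtain ⟨f, hf, hfn⟩ := Set.not_subset.1 havoid
  refine ⟨G.norm D f, G.norm_mem D f, fun hmem ↦ ?_, fun q hq ↦ ?_⟩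
  · obtain ⟨P, hP, hPc, hfP⟩ := (G.norm_mem_iff D f p).1 hmem
    exact hfn (Set.mem_biUnion ((finite_primes_over (B := B) p).mem_toFinset.2 ⟨hP, hPc⟩) hfP)
  · have hqW : q ∈ W := by
      by_contra hqW
      have : q ∈ PrimeSpectrum.zeroLocus (s : Set A) := hs ▸ hqW
      exact hq (G.norm_mem_of_mem D (this hf))
    exact ⟨(hiff _ _ (Ideal.ker_algebraMap_residueField q.asIdeal).symm).2 hqW.1, hqW.2⟩

end TransAlg

end Groth.Agent.Lib.GrpdQuot
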