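import Mathlib.RingTheory.Flat.Localization
import Mathlib.RingTheory.LocalProperties.FinitePresentation
import Mathlib.RingTheory.Localization.Away.Basic
import Mathlib.LinearAlgebra.Dimension.Constructions
import Groth.Agent.Lib.GrpdQuot.Orbit

/-!
# The quotient by a finite locally free affine equivalence relation

If `A` generates `B` through `τ` as a module through `σ`, then `A` is finite, flat and finitely
presented over the invariants `C`, and `A ⊗_C A ≅ B`.
-/

universe u

open scoped TensorProduct

namespace Groth.Agent.Lib.GrpdQuot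

namespace TransAlg

variable {A B : Type u} [CommRing A] [CommRing B] [Algebra A B] (G : TransAlg A B)
  [Module.Finite A B] [Module.Projective A B] {r : ℕ} (x : Fin r → A)

/-- `N` is an invariant function on whose non-vanishing locus the `τ (x i)` form a basis. -/
structure IsBasisLocus (N : A) : Prop where
  mem : N ∈ G.inv
  spans : ∀ q : PrimeSpectrum A, N ∉ q.asIdeal →
    SpansAt (fun i ↦ G.τ (x i)) (algebraMap A q.asIdeal.ResidueField)
  rank : ∀ q : PrimeSpectrum A, N ∉ q.asIdeal → Module.rankAtStalk B q = r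

variable {G x} {N : A} (h : G.IsBasisLocus x N)
include h

theorem IsBasisLocus.exists_pow_smul_mem (b : B) :
    ∃ (n : ℕ) (c : Fin r → A), N ^ n • b = ∑ i, c i • G.τ (x i) := by
  let v : Fin r → B := fun i ↦ G.τ (x i)
  let m : Coker A v := Submodule.Quotient.mk b
  have hrad : N ∈ Ideal.radical (LinearMap.ker (LinearMap.toSpanSingleton A (Coker A v) m)) := by
    rw [Ideal.radical_eq_sInf, Submodule.mem_sInf]
    rintro q ⟨hq, hqp⟩
    by_contra hN
    have h1 := (spansAt_field_iff v _).1 (h.spans ⟨q, hqp⟩ hN)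
    have h2 : (⟨q, hqp⟩ : PrimeSpectrum A) ∈ Module.support A (Coker A v) := by
      rw [Module.mem_support_iff']
      refine ⟨m, fun a ha h0 ↦ ha (hq ?_)⟩
      rw [LinearMap.mem_ker, LinearMap.toSpanSingleton_apply]
      exact h0
    refine h1 ?_
    convert h2 using 1
    exact PrimeSpectrum.ext (Ideal.ker_algebraMap_residueField q)
  obtain ⟨n, hn⟩ := hrad
  rw [LinearMap.mem_ker, LinearMap.toSpanSingleton_apply, ← Submodule.Quotient.mk_smul,
    Submodule.Quotient.mk_eq_zero, Submodule.mem_span_range_iff_exists_fun] at hn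
  exact ⟨n, hn.choose, hn.choose_spec.symm⟩

/-- The family is independent over every ring on which `N` is invertible. -/
theorem IsBasisLocus.indep {K : Type u} [CommRing K] (g : A →+* K) (hN : IsUnit (g N))
    (c : Fin r → Along g) (hc : ∑ i, c i • ((1 : Along g) ⊗ₜ[A] G.τ (x i)) = 0) : c = 0 := by
  refine injective_of_spansAt (fun i ↦ G.τ (x i)) g ?_ (fun P ↦ h.rank _ ?_) c hc
  · refine Submodule.eq_top_iff'.2 fun z ↦ ?_
    induction z with
    | zero => exact Submodule.zero_mem _
    | add y z hy hz => exact Submodule.add_mem _ hy hz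
    | tmul k b =>
      obtain ⟨n, d, hd⟩ := h.exists_pow_smul_mem b
      have hu : IsUnit (algebraMap A (Along g) (N ^ n)) := by
        rw [map_pow]
        exact hN.pow n
      have h1 : (1 : Along g) ⊗ₜ[A] (N ^ n • b) ∈
          Submodule.span (Along g) (Set.range fun i ↦ (1 : Along g) ⊗ₜ[A] G.τ (x i)) := by
        rw [hd, TensorProduct.tmul_sum]
        refine Submodule.sum_mem _ fun i _ ↦ ?_
        rw [TensorProduct.tmul_smul, ← algebraMap_smul (Along g) (d i)]
        exact Submodule.smul_mem _ _ (Submodule.subset_span ⟨i, rfl⟩)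
      rw [TensorProduct.tmul_smul, ← algebraMap_smul (Along g) (N ^ n)] at h1
      have h2 := (Submodule.smul_mem_iff_of_isUnit _ hu).1 h1
      have : (k ⊗ₜ[A] b : Along g ⊗[A] B) = k • ((1 : Along g) ⊗ₜ[A] b) := by
        rw [TensorProduct.smul_tmul', smul_eq_mul, mul_one]
      rw [this]
      exact Submodule.smul_mem _ _ h2
  · intro hmem
    exact P.2.ne_top (Ideal.eq_top_of_isUnit_mem _ hmem hN)

theorem IsBasisLocus.exists_pow_mul_eq_zero (c : Fin r → A)
    (hc : ∑ i, c i • G.τ (x i) = 0) (i : Fin r) : ∃ n, N ^ n * c i = 0 := by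
  let g := algebraMap A (Localization.Away N)
  have h0 := congrArg (fun b ↦ (1 : Along g) ⊗ₜ[A] b) hc
  simp only [TensorProduct.tmul_sum, TensorProduct.tmul_smul, TensorProduct.tmul_zero] at h0
  simp only [← algebraMap_smul (Along g) (_ : A)] at h0
  have := congrFun (h.indep g (IsLocalization.Away.algebraMap_isUnit N)
    (fun i ↦ algebraMap A (Along g) (c i)) h0) i
  obtain ⟨⟨_, n, rfl⟩, hn⟩ := (IsLocalization.map_eq_zero_iff (Submonoid.powers N)
    (Localization.Away N) (c i)).1 this
  exact ⟨n, hn⟩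

theorem IsBasisLocus.exists_pow_mul_eq (a : A) :
    ∃ (n : ℕ) (c : Fin r → A), (∀ i, c i ∈ G.inv) ∧ N ^ n * a = ∑ i, c i * x i := by
  obtain ⟨n, c, hc⟩ := h.exists_pow_smul_mem (G.τ a)
  have hNn : algebraMap A B (N ^ n) = G.τ (N ^ n) := (Subring.pow_mem _ h.mem n)
  -- two expansions over `B`
  let σ' := (RingHom.id B).comp (algebraMap A B)
  let τ' := (RingHom.id B).comp G.τ
  have hexp : ∀ g : A →+* B, g (N ^ n) • ((1 : Along g) ⊗ₜ[A] G.τ a) =
      ∑ i, g (c i) • ((1 : Along g) ⊗ₜ[A] G.τ (x i)) := fun g ↦ by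
    have := congrArg (fun b ↦ (1 : Along g) ⊗ₜ[A] b) hc
    simp only [TensorProduct.tmul_sum, TensorProduct.tmul_smul] at this
    simp only [← algebraMap_smul (Along g) (_ : A)] at this
    exact this
  have h1 := congrArg (G.θ (RingHom.id B)) (hexp σ')
  simp only [map_smul, map_sum, G.θ_τ] at h1
  have h3 : ∑ i, (σ' (c i) - τ' (c i)) • ((1 : Along τ') ⊗ₜ[A] G.τ (x i)) = 0 := by
    simp only [sub_smul, Finset.sum_sub_distrib]
    rw [← h1, ← hexp τ']
    change algebraMap A B (N ^ n) • _ - G.τ (N ^ n) • _ = 0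
    rw [hNn]
    exact sub_self _
  -- push to the localization of `B` at `N`
  let L := Localization.Away (G.τ N)
  let β := algebraMap B L
  let g := β.comp τ'
  let Φ : Along τ' ⊗[A] B →ₗ[A] Along g ⊗[A] B :=
    TensorProduct.map
      { toFun := fun k ↦ toAlong g (β (ofAlong τ' k))
        map_add' := fun k k' ↦ by simp
        map_smul' := fun a k ↦ by
          change β (τ' a * ofAlong τ' k) = g a * β (ofAlong τ' k)
          rw [map_mul]
          rfl } LinearMap.id
  have hΦ : ∀ (k : B) (z : B), Φ (k • ((1 : Along τ') ⊗ₜ[A] z)) =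
      β k • ((1 : Along g) ⊗ₜ[A] z) := fun k z ↦ by
    change Φ ((k • (1 : Along τ')) ⊗ₜ[A] z) = (β k • (1 : Along g)) ⊗ₜ[A] z
    rw [TensorProduct.map_tmul, LinearMap.id_apply]
    congr 1
    change β (k * 1) = β k * 1
    rw [mul_one, mul_one]
  have h4 := congrArg Φ h3
  simp only [map_sum, map_zero, hΦ] at h4
  have h5 := h.indep g (IsLocalization.Away.algebraMap_isUnit (S := L) (G.τ N))
    (fun i ↦ toAlong g (β (σ' (c i) - τ' (c i)))) h4
  have hex : ∀ i, ∃ m, G.τ N ^ m * (algebraMap A B (c i) - G.τ (c i)) = 0 := fun i ↦ by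
    obtain ⟨⟨_, m, rfl⟩, hm⟩ := (IsLocalization.map_eq_zero_iff (Submonoid.powers (G.τ N)) L
      _).1 (congrFun h5 i)
    exact ⟨m, hm⟩
  choose m hm using hex
  let M := Finset.univ.sup m
  refine ⟨M + n, fun i ↦ N ^ M * c i, fun i ↦ ?_, ?_⟩
  · rw [mem_inv, map_mul, map_mul, map_pow, map_pow, show algebraMap A B N = G.τ N from h.mem,
      ← sub_eq_zero, ← mul_sub]
    obtain ⟨k, hk⟩ := Nat.exists_eq_add_of_le (Finset.le_sup (f := m) (Finset.mem_univ i))
    rw [show M = k + m i from hk.trans (Nat.add_comm _ _), pow_add, mul_assoc, hm, mul_zero]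
  · have he := congrArg G.e hc
    rw [map_smul, map_sum, G.e_τ, smul_eq_mul] at he
    rw [pow_add, mul_assoc, he, Finset.mul_sum]
    refine Finset.sum_congr rfl fun i _ ↦ ?_
    rw [map_smul, G.e_τ, smul_eq_mul, mul_assoc]

end TransAlg

namespace TransAlg

variable {A B : Type u} [CommRing A] [CommRing B] [Algebra A B] (G : TransAlg A B)

/-- The comparison map `A ⊗_C A → B`, `a ⊗ a' ↦ τ a * σ a'`. -/
noncomputable def cmp : A ⊗[G.inv] A →ₐ[G.inv] B :=
  Algebra.TensorProduct.lift
    { toRingHom := G.τ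
      commutes' := fun c ↦ (c.2).symm }
    { toRingHom := algebraMap A B
      commutes' := fun _ ↦ rfl } fun _ _ ↦ mul_comm _ _

theorem cmp_tmul (a a' : A) : G.cmp (a ⊗ₜ a') = G.τ a * algebraMap A B a' := by
  simp [cmp]

variable [Module.Finite A B] [Module.Projective A B]
  (hgen : Submodule.span A (Set.range G.τ) = ⊤)

include hgen

/-- Around every prime there is a basis locus. -/
theorem exists_isBasisLocus (p : Ideal A) [p.IsPrime] :
    ∃ (r : ℕ) (x : Fin r → A) (N : A), G.IsBasisLocus x N ∧ N ∉ p := by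
  classical
  obtain ⟨D⟩ := DualBasis.exists_dualBasis (A := A) (P := B)
  let g := algebraMap A p.ResidueField
  have hspan : Submodule.span p.ResidueField
      (Set.range fun a ↦ (1 : Along g) ⊗ₜ[A] G.τ a) = ⊤ := by
    refine Submodule.eq_top_iff'.2 fun z ↦ ?_
    induction z with
    | zero => exact Submodule.zero_mem _
    | add y z hy hz => exact Submodule.add_mem _ hy hz
    | tmul k b =>
      have hb : b ∈ Submodule.span A (Set.range G.τ) := hgen ▸ Submodule.mem_top
      induction hb using Submodule.span_induction generalizing k with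
      | mem b hb =>
        obtain ⟨a, rfl⟩ := hb
        have : (k ⊗ₜ[A] G.τ a : Along g ⊗[A] B) = ofAlong g k • ((1 : Along g) ⊗ₜ[A] G.τ a) := by
          rw [TensorProduct.smul_tmul']
          congr 1
          exact (mul_one (ofAlong g k)).symm
        rw [this]
        exact Submodule.smul_mem _ _ (Submodule.subset_span ⟨a, rfl⟩)
      | zero => simp
      | add b b' _ _ hb hb' => rw [TensorProduct.tmul_add]; exact Submodule.add_mem _ (hb k) (hb' k)
      | smul a b _ hb =>
        rw [TensorProduct.tmul_smul, TensorProduct.smul_tmul']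
        exact hb _
  obtain ⟨s, hs, hspans, hli⟩ := exists_linearIndependent p.ResidueField
    (Set.range fun a ↦ (1 : Along g) ⊗ₜ[A] G.τ a)
  rw [hspan] at hspans
  let b := Module.Basis.mk hli (by rw [Subtype.range_coe, hspans])
  haveI : Module.Finite p.ResidueField (Along g ⊗[A] B) :=
    inferInstanceAs (Module.Finite (Along g) (Along g ⊗[A] B))
  haveI : Finite s := Module.Finite.finite_basis b
  haveI : Fintype s := Fintype.ofFinite s
  let e := (Fintype.equivFin s).symm
  choose a ha using fun i ↦ hs (e i).2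
  have hx : SpansAt (fun i ↦ G.τ (a i)) g := by
    change Submodule.span p.ResidueField
      (Set.range fun i ↦ (1 : Along g) ⊗ₜ[A] G.τ (a i)) = ⊤
    rw [← hspans]
    congr 1
    ext z
    refine ⟨?_, fun hz ↦ ?_⟩
    · rintro ⟨i, rfl⟩
      exact Eq.mpr (congrArg (· ∈ s) (ha i)) (e i).2
    · obtain ⟨i, hi⟩ := e.surjective ⟨z, hz⟩
      exact ⟨i, (ha i).trans (congrArg Subtype.val hi)⟩
  have hrank : Module.rankAtStalk B (⟨p, inferInstance⟩ : PrimeSpectrum A) = Fintype.card s := by
    letI : Algebra A p.ResidueField := g.toAlgebra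
    let z : PrimeSpectrum p.ResidueField := ⟨⊥, Ideal.isPrime_bot⟩
    have hz : (⟨p, inferInstance⟩ : PrimeSpectrum A) = z.comap (algebraMap A p.ResidueField) :=
      PrimeSpectrum.ext (Ideal.ker_algebraMap_residueField p).symm
    rw [hz, ← Module.rankAtStalk_baseChange, Module.rankAtStalk_eq_finrank_of_free]
    exact Module.finrank_eq_card_basis b
  obtain ⟨N, hN, hNp, hloc⟩ := G.exists_invariant_basis_nhd D a p hx hrank
  exact ⟨_, a, N, ⟨hN, fun q hq ↦ (hloc q hq).1, fun q hq ↦ (hloc q hq).2⟩, hNp⟩

/-- Invariant basis loci generate the unit ideal of the invariants. -/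
theorem span_basisLocus_eq_top :
    Ideal.span {N : G.inv | ∃ (r : ℕ) (x : Fin r → A), G.IsBasisLocus x (N : A)} = ⊤ := by
  obtain ⟨D⟩ := DualBasis.exists_dualBasis (A := A) (P := B)
  haveI := G.isIntegral_inv D
  by_contra hne
  obtain ⟨m, hm, hle⟩ := Ideal.exists_le_maximal _ hne
  obtain ⟨p, -, hp, hpm⟩ := Ideal.exists_ideal_over_prime_of_isIntegral m (⊥ : Ideal A) (fun c hc ↦ by
    rw [Ideal.mem_comap, Ideal.mem_bot] at hc
    rw [show c = 0 from Subtype.ext hc]
    exact m.zero_mem)
  obtain ⟨r, x, N, hN, hNp⟩ := G.exists_isBasisLocus hgen p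
  have : (⟨N, hN.mem⟩ : G.inv) ∈ m := hle (Ideal.subset_span ⟨r, x, hN⟩)
  rw [← hpm] at this
  exact hNp this

theorem bijective_cmp : Function.Bijective G.cmp := by
  have htop := G.span_basisLocus_eq_top hgen
  constructor
  · rw [injective_iff_map_eq_zero]
    intro z hz
    refine Submodule.mem_bot G.inv |>.1
      (Submodule.mem_of_span_eq_top_of_smul_pow_mem ⊥ _ htop z ?_)
    rintro ⟨N, r, x, hN⟩
    obtain ⟨n, b, hb⟩ : ∃ (n : ℕ) (b : Fin r → A),
        (N ^ n : G.inv) • z = ∑ i, x i ⊗ₜ[G.inv] b i := by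
      clear hz
      induction z with
      | zero => exact ⟨0, 0, by simp⟩
      | add z z' hz hz' =>
        obtain ⟨n, b, hb⟩ := hz
        obtain ⟨n', b', hb'⟩ := hz'
        refine ⟨n + n', fun i ↦ (N ^ n' : G.inv) • b i + (N ^ n : G.inv) • b' i, ?_⟩
        rw [smul_add]
        simp only [TensorProduct.tmul_add, TensorProduct.tmul_smul, Finset.sum_add_distrib,
          ← Finset.smul_sum, ← hb, ← hb', smul_smul, ← pow_add, Nat.add_comm n n']
      | tmul a a' =>
        obtain ⟨n, c, hc, he⟩ := hN.exists_pow_mul_eq a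
        refine ⟨n, fun i ↦ c i * a', ?_⟩
        rw [TensorProduct.smul_tmul', show (N ^ n : G.inv) • a = ∑ i, c i * x i from he,
          TensorProduct.sum_tmul]
        refine Finset.sum_congr rfl fun i _ ↦ ?_
        exact TensorProduct.smul_tmul (⟨c i, hc i⟩ : G.inv) (x i) a'
    have h0 : ∑ i, b i • G.τ (x i) = 0 := by
      have h1 := congrArg G.cmp hb
      rw [map_smul, hz, smul_zero, map_sum] at h1
      rw [h1]
      refine Finset.sum_congr rfl fun i _ ↦ ?_
      rw [cmp_tmul, Algebra.smul_def, mul_comm]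
    choose m hm using hN.exists_pow_mul_eq_zero b h0
    refine ⟨Finset.univ.sup m + n, Submodule.mem_bot G.inv |>.2 ?_⟩
    rw [pow_add, ← smul_smul, hb, Finset.smul_sum]
    refine Finset.sum_eq_zero fun i _ ↦ ?_
    rw [← TensorProduct.tmul_smul]
    have : (N ^ Finset.univ.sup m : G.inv) • b i = 0 := by
      change (N : A) ^ Finset.univ.sup m * b i = 0
      obtain ⟨k, hk⟩ := Nat.exists_eq_add_of_le (Finset.le_sup (f := m) (Finset.mem_univ i))
      rw [show Finset.univ.sup m = k + m i from hk.trans (Nat.add_comm _ _), pow_add, mul_assoc,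
        hm i, mul_zero]
    rw [this, TensorProduct.tmul_zero]
  · intro b
    have : b ∈ LinearMap.range G.cmp.toLinearMap := by
      refine Submodule.mem_of_span_eq_top_of_smul_pow_mem _ _ htop b ?_
      rintro ⟨N, r, x, hN⟩
      obtain ⟨n, c, hc⟩ := hN.exists_pow_smul_mem b
      refine ⟨n, ∑ i, x i ⊗ₜ[G.inv] c i, ?_⟩
      rw [map_sum]
      refine Eq.trans (Finset.sum_congr rfl fun i _ ↦ ?_) hc.symm
      rw [AlgHom.toLinearMap_apply, cmp_tmul, Algebra.smul_def, mul_comm]
    exact this

/-- Near every point `A` is free over the invariants. -/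
theorem exists_localized_equiv {r : ℕ} {x : Fin r → A} {N : G.inv}
    (hN : G.IsBasisLocus x (N : A)) :
    Nonempty (LocalizedModule.Away N (Fin r → G.inv) ≃ₗ[Localization.Away N]
      LocalizedModule.Away N A) := by
  let ψ : (Fin r → G.inv) →ₗ[G.inv] A := Fintype.linearCombination G.inv x
  let S := Submonoid.powers N
  refine ⟨LinearEquiv.ofBijective (LocalizedModule.map S ψ) ⟨?_, ?_⟩⟩
  · rw [← LinearMap.ker_eq_bot, LinearMap.ker_eq_bot']
    intro z hz
    induction z using LocalizedModule.induction_on with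
    | h c s =>
      obtain ⟨_, l, rfl⟩ := s
      rw [LocalizedModule.map_mk, ← LocalizedModule.zero_mk (⟨_, l, rfl⟩ : S),
        LocalizedModule.mk_eq] at hz
      obtain ⟨⟨_, k, rfl⟩, hk⟩ := hz
      rw [← LocalizedModule.zero_mk (⟨_, l, rfl⟩ : S), LocalizedModule.mk_eq]
      rw [smul_zero, smul_zero] at hk
      have hψ : ψ ((N ^ (k + l)) • c) = 0 := by
        rw [map_smul, pow_add, mul_smul]
        exact hk
      have hsum : ∑ i, ((N : A) ^ (k + l) * (c i : A)) • G.τ (x i) = 0 := by
        have h1 := congrArg G.τ hψ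
        rw [map_zero, Fintype.linearCombination_apply, map_sum] at h1
        rw [← h1]
        refine Finset.sum_congr rfl fun i _ ↦ ?_
        rw [Algebra.smul_def, show (((N ^ (k + l)) • c) i) • x i =
          ((N : A) ^ (k + l) * (c i : A)) * x i from rfl, map_mul G.τ _ (x i)]
        congr 1
        exact Subring.mul_mem _ (Subring.pow_mem _ N.2 _) (c i).2
      choose m hm using hN.exists_pow_mul_eq_zero _ hsum
      refine ⟨⟨N ^ (Finset.univ.sup m + k), ⟨_, rfl⟩⟩, ?_⟩
      simp only [smul_zero]
      funext i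
      apply Subtype.ext
      obtain ⟨d, hd⟩ := Nat.exists_eq_add_of_le (Finset.le_sup (f := m) (Finset.mem_univ i))
      change (N : A) ^ (Finset.univ.sup m + k) * ((N : A) ^ l * (c i : A)) = 0
      calc (N : A) ^ (Finset.univ.sup m + k) * ((N : A) ^ l * (c i : A))
          = (N : A) ^ d * ((N : A) ^ m i * ((N : A) ^ (k + l) * (c i : A))) := by rw [hd]; ring
        _ = 0 := by rw [hm i, mul_zero]
  · intro z
    induction z using LocalizedModule.induction_on with
    | h a s =>
      obtain ⟨n, c, hc, he⟩ := hN.exists_pow_mul_eq a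
      refine ⟨LocalizedModule.mk (fun i ↦ (⟨c i, hc i⟩ : G.inv)) (⟨N ^ n, ⟨n, rfl⟩⟩ * s), ?_⟩
      rw [LocalizedModule.map_mk, LocalizedModule.mk_eq]
      refine ⟨1, ?_⟩
      rw [one_smul, one_smul]
      change (s : G.inv) • ψ _ = ((N ^ n : G.inv) * (s : G.inv)) • a
      rw [mul_comm (N ^ n : G.inv), mul_smul, Fintype.linearCombination_apply]
      exact congrArg ((s : G.inv) • ·) he.symm

theorem finitePresentation_inv : Module.FinitePresentation G.inv A := by
  refine Module.FinitePresentation.of_localizationSpan _ (G.span_basisLocus_eq_top hgen) ?_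
  rintro ⟨N, r, x, hN⟩
  obtain ⟨e⟩ := G.exists_localized_equiv hgen hN
  haveI : Module.Free (Localization.Away N) (LocalizedModule.Away N (Fin r → G.inv)) :=
    Module.free_of_isLocalizedModule (Submonoid.powers N)
      (LocalizedModule.mkLinearMap (Submonoid.powers N) _)
  haveI : Module.Finite (Localization.Away N) (LocalizedModule.Away N (Fin r → G.inv)) :=
    Module.Finite.of_isLocalizedModule (Submonoid.powers N)
      (LocalizedModule.mkLinearMap (Submonoid.powers N) _)
  haveI : Module.Free (Localization.Away N) (LocalizedModule.Away N A) := Module.Free.of_equiv e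
  haveI : Module.Finite (Localization.Away N) (LocalizedModule.Away N A) := Module.Finite.equiv e
  exact Module.finitePresentation_of_projective _ _

theorem flat_inv : Module.Flat G.inv A := by
  refine Module.flat_of_localized_span G.inv A _ (G.span_basisLocus_eq_top hgen) ?_
  rintro ⟨N, r, x, hN⟩
  obtain ⟨e⟩ := G.exists_localized_equiv hgen hN
  haveI : Module.Free (Localization.Away N) (LocalizedModule.Away N (Fin r → G.inv)) :=
    Module.free_of_isLocalizedModule (Submonoid.powers N)
      (LocalizedModule.mkLinearMap (Submonoid.powers N) _)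
  haveI : Module.Free (Localization.Away N) (LocalizedModule.Away N A) := Module.Free.of_equiv e
  haveI : Module.Flat G.inv (Localization.Away N) :=
    IsLocalization.flat (Localization.Away N) (Submonoid.powers N)
  exact Module.Flat.trans G.inv (Localization.Away N) _

end TransAlg

end Groth.Agent.Lib.GrpdQuot
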