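import Mathlib.AlgebraicGeometry.Morphisms.Finite
import Mathlib.AlgebraicGeometry.Morphisms.Flat
import Mathlib.AlgebraicGeometry.Morphisms.FinitePresentation
import Mathlib.RingTheory.Finiteness.Projective
import Mathlib.RingTheory.Finiteness.ModuleFinitePresentation
import Mathlib.RingTheory.Flat.EquationalCriterion
import Groth.Prelude.Def_Grpd
import Groth.Agent.Lib.GrpdQuot.Free

/-!
# Affine groupoid schemes give translation algebras

* `ptEquiv`: points of affine schemes with values in rings;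
* `mulR`: composition of ring valued arrows;
* `transAlg`: the translation algebra of an affine groupoid.
-/

universe u

open CategoryTheory CategoryTheory.Limits AlgebraicGeometry
open scoped TensorProduct

namespace Groth.Agent.Lib.GrpdQuot

section Points

variable {X Y : Scheme.{u}} [IsAffine X] [IsAffine Y] {L L' : Type u} [CommRing L] [CommRing L']

/-- Ring valued points of an affine scheme. -/
noncomputable def pt (φ : Γ(X, ⊤) →+* L) : Spec (CommRingCat.of L) ⟶ X :=
  Spec.map (CommRingCat.ofHom φ) ≫ X.isoSpec.inv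

/-- The ring map of a point. -/
noncomputable def unpt (f : Spec (CommRingCat.of L) ⟶ X) : Γ(X, ⊤) →+* L :=
  (Spec.preimage (f ≫ X.isoSpec.hom)).hom

theorem pt_unpt (f : Spec (CommRingCat.of L) ⟶ X) : pt (unpt f) = f := by
  simp [pt, unpt]

theorem unpt_pt (φ : Γ(X, ⊤) →+* L) : unpt (pt φ) = φ := by
  simp [pt, unpt]

theorem pt_comp (φ : Γ(X, ⊤) →+* L) (f : X ⟶ Y) : pt φ ≫ f = pt (φ.comp f.appTop.hom) := by
  simp only [pt, Category.assoc, ← Scheme.isoSpec_inv_naturality, ← Spec.map_comp_assoc]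
  rfl

theorem map_pt (g : L →+* L') (φ : Γ(X, ⊤) →+* L) :
    Spec.map (CommRingCat.ofHom g) ≫ pt φ = pt (g.comp φ) := by
  simp only [pt, ← Spec.map_comp_assoc]
  rfl

theorem pt_injective {φ ψ : Γ(X, ⊤) →+* L} (h : pt φ = pt ψ) : φ = ψ := by
  rw [← unpt_pt φ, ← unpt_pt ψ, h]

end Points

variable {S : Scheme.{u}} (G : Grpd.GroupoidScheme S) [IsAffine G.U] [IsAffine G.R]

/-- The source map on functions. -/
noncomputable abbrev σ : Γ(G.U, ⊤) →+* Γ(G.R, ⊤) := G.s.appTop.hom

/-- The target map on functions. -/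
noncomputable abbrev τ : Γ(G.U, ⊤) →+* Γ(G.R, ⊤) := G.t.appTop.hom

section Mul

variable {L L' : Type u} [CommRing L] [CommRing L']

theorem comp_s_eq {φ ψ : Γ(G.R, ⊤) →+* L} (h : φ.comp (σ G) = ψ.comp (τ G)) :
    pt φ ≫ G.s = pt ψ ≫ G.t := by
  rw [pt_comp, pt_comp, h]

/-- Composition of arrows. -/
noncomputable def mulR (φ ψ : Γ(G.R, ⊤) →+* L) (h : φ.comp (σ G) = ψ.comp (τ G)) :
    Γ(G.R, ⊤) →+* L :=
  unpt (pullback.lift (pt φ) (pt ψ) (comp_s_eq G h) ≫ G.c)

variable (φ ψ χ : Γ(G.R, ⊤) →+* L)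

theorem mulR_σ (h : φ.comp (σ G) = ψ.comp (τ G)) :
    (mulR G φ ψ h).comp (σ G) = ψ.comp (σ G) := by
  apply pt_injective
  rw [← pt_comp, ← pt_comp, mulR, pt_unpt, G.comp_s]

theorem mulR_τ (h : φ.comp (σ G) = ψ.comp (τ G)) :
    (mulR G φ ψ h).comp (τ G) = φ.comp (τ G) := by
  apply pt_injective
  rw [← pt_comp, ← pt_comp, mulR, pt_unpt, G.comp_t]

theorem comp_mulR (g : L →+* L') (h : φ.comp (σ G) = ψ.comp (τ G)) :
    g.comp (mulR G φ ψ h) = mulR G (g.comp φ) (g.comp ψ) (by rw [RingHom.comp_assoc, h, RingHom.comp_assoc]) := by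
  apply pt_injective
  rw [← map_pt, mulR, mulR, pt_unpt, pt_unpt, ← Category.assoc]
  congr 1
  apply pullback.hom_ext <;>
    simp [map_pt, pullback.lift_fst, pullback.lift_snd]

/-- The inverse arrow. -/
noncomputable abbrev invR : Γ(G.R, ⊤) →+* L := φ.comp G.i.appTop.hom

theorem invR_σ : (invR G φ).comp (σ G) = φ.comp (τ G) := by
  apply pt_injective
  rw [← pt_comp, ← pt_comp, ← pt_comp, Category.assoc, G.i_s]

theorem invR_τ : (invR G φ).comp (τ G) = φ.comp (σ G) := by
  apply pt_injective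
  rw [← pt_comp, ← pt_comp, ← pt_comp, Category.assoc, G.i_t]

theorem mulR_assoc (h₁ : φ.comp (σ G) = ψ.comp (τ G)) (h₂ : ψ.comp (σ G) = χ.comp (τ G)) :
    mulR G (mulR G φ ψ h₁) χ ((mulR_σ G φ ψ h₁).trans h₂) =
      mulR G φ (mulR G ψ χ h₂) (h₁.trans (mulR_τ G ψ χ h₂).symm) := by
  apply pt_injective
  simp only [mulR, pt_unpt]
  exact G.assoc _ _ _ (comp_s_eq G h₁) (comp_s_eq G h₂)

theorem mulR_invR_cancel (h : φ.comp (σ G) = ψ.comp (τ G)) :
    mulR G (mulR G φ ψ h) (invR G ψ) ((mulR_σ G φ ψ h).trans (invR_τ G ψ).symm) = φ := by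
  rw [mulR_assoc G φ ψ (invR G ψ) h (invR_τ G ψ).symm]
  apply pt_injective
  simp only [mulR, pt_unpt]
  have e1 : pullback.lift (pt ψ) (pt (invR G ψ)) (comp_s_eq G (invR_τ G ψ).symm) ≫ G.c =
      pt φ ≫ G.s ≫ G.e := by
    rw [reassoc_of% comp_s_eq G h, ← G.comp_i (pt ψ)]
    congr 1
    apply pullback.hom_ext <;> simp [invR, ← pt_comp, pullback.lift_fst, pullback.lift_snd]
  refine Eq.trans ?_ (G.comp_e (pt φ))
  congr 1
  apply pullback.hom_ext <;> simp [e1, pullback.lift_fst, pullback.lift_snd]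

theorem mulR_cancel_invR (h : φ.comp (σ G) = ψ.comp (σ G)) :
    mulR G (mulR G φ (invR G ψ) (h.trans (invR_τ G ψ).symm)) ψ
      ((mulR_σ G _ _ _).trans (invR_σ G ψ)) = φ := by
  rw [mulR_assoc G φ (invR G ψ) ψ _ (invR_σ G ψ)]
  apply pt_injective
  simp only [mulR, pt_unpt]
  have e1 : pullback.lift (pt (invR G ψ)) (pt ψ) (comp_s_eq G (invR_σ G ψ)) ≫ G.c =
      pt φ ≫ G.s ≫ G.e := by
    have hs : pt φ ≫ G.s = pt ψ ≫ G.s := by rw [pt_comp, pt_comp, h]
    rw [reassoc_of% hs, ← G.i_comp (pt ψ)]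
    congr 1
    apply pullback.hom_ext <;> simp [invR, ← pt_comp, pullback.lift_fst, pullback.lift_snd]
  refine Eq.trans ?_ (G.comp_e (pt φ))
  congr 1
  apply pullback.hom_ext <;> simp [e1, pullback.lift_fst, pullback.lift_snd]

end Mul

/-! ### The translation algebra -/

section LiftAlong

variable {A B : Type u} [CommRing A] [CommRing B] [Algebra A B] {K : Type u} [CommRing K]
  {C : Type u} [CommRing C] [Algebra K C]

/-- The bilinear ring map underlying `liftAlong`. -/
noncomputable def liftAlongRing (f : A →+* K) (φ : B →+* C)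
    (h : φ.comp (algebraMap A B) = (algebraMap K C).comp f) : Along f ⊗[A] B →+* C :=
  letI iA : Algebra A C := ((algebraMap K C).comp f).toAlgebra
  let f₁ : Along f →ₐ[A] C :=
    { toRingHom := (algebraMap K C : Along f →+* C), commutes' := fun a ↦ rfl }
  let f₂ : B →ₐ[A] C := { φ with commutes' := fun a ↦ RingHom.congr_fun h a }
  (Algebra.TensorProduct.lift f₁ f₂ fun _ _ ↦ mul_comm _ _).toRingHom

theorem liftAlongRing_tmul (f : A →+* K) (φ : B →+* C)
    (h : φ.comp (algebraMap A B) = (algebraMap K C).comp f) (k : K) (b : B) :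
    liftAlongRing f φ h (toAlong f k ⊗ₜ b) = algebraMap K C k * φ b := by
  unfold liftAlongRing
  simp only [AlgHom.toRingHom_eq_coe, RingHom.coe_coe, Algebra.TensorProduct.lift_tmul]
  rfl

/-- Maps out of a fibre. -/
noncomputable def liftAlong (f : A →+* K) (φ : B →+* C)
    (h : φ.comp (algebraMap A B) = (algebraMap K C).comp f) : Along f ⊗[A] B →ₐ[K] C :=
  { toRingHom := liftAlongRing f φ h
    commutes' := fun k ↦ (liftAlongRing_tmul f φ h k 1).trans (by rw [map_one, mul_one]) }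

theorem liftAlong_tmul (f : A →+* K) (φ : B →+* C)
    (h : φ.comp (algebraMap A B) = (algebraMap K C).comp f) (b : B) :
    liftAlong f φ h (1 ⊗ₜ b) = φ b :=
  (liftAlongRing_tmul f φ h 1 b).trans (by rw [map_one, one_mul])

theorem algHom_ext_along {f : A →+* K} {F F' : Along f ⊗[A] B →ₐ[K] C}
    (h : ∀ b, F (1 ⊗ₜ b) = F' (1 ⊗ₜ b)) : F = F' := by
  refine AlgHom.ext fun z ↦ ?_
  induction z with
  | zero => simp
  | add x y hx hy => simp [hx, hy]
  | tmul k b =>
    have : (k ⊗ₜ[A] b : Along f ⊗[A] B) = ofAlong f k • ((1 : Along f) ⊗ₜ[A] b) := by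
      rw [TensorProduct.smul_tmul']
      congr 1
      exact (mul_one (ofAlong f k)).symm
    rw [this, map_smul, map_smul, h]

/-- The inclusion of `B` in a fibre. -/
noncomputable def inclAlong (f : A →+* K) : B →+* Along f ⊗[A] B :=
  (Algebra.TensorProduct.includeRight (R := A) (A := Along f) (B := B)).toRingHom

theorem inclAlong_comp (f : A →+* K) :
    (inclAlong (B := B) f).comp (algebraMap A B) = (algebraMap K _).comp f := by
  refine RingHom.ext fun a ↦ ?_
  change (1 : Along f) ⊗ₜ[A] algebraMap A B a = toAlong f (f a) ⊗ₜ[A] (1 : B)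
  rw [Algebra.algebraMap_eq_smul_one, ← TensorProduct.smul_tmul, Algebra.smul_def, mul_one]
  rfl

end LiftAlong

/-- `Γ(R)` as an algebra over `Γ(U)` through the source map. -/
@[reducible]
noncomputable def algS : Algebra Γ(G.U, ⊤) Γ(G.R, ⊤) := (σ G).toAlgebra

attribute [local instance] algS

theorem e_σ (a : Γ(G.U, ⊤)) : G.e.appTop.hom (σ G a) = a := by
  have := congr(($(G.e_s)).appTop.hom a)
  simpa using this

theorem e_τ (a : Γ(G.U, ⊤)) : G.e.appTop.hom (τ G a) = a := by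
  have := congr(($(G.e_t)).appTop.hom a)
  simpa using this

section Theta

variable {K : Type u} [CommRing K] (β : Γ(G.R, ⊤) →+* K)

/-- The point `β` in the fibre over its target. -/
noncomputable abbrev ptτ : Γ(G.R, ⊤) →+* Along (β.comp (τ G)) ⊗[Γ(G.U, ⊤)] Γ(G.R, ⊤) :=
  (algebraMap K _).comp β

/-- The point `β` in the fibre over its source. -/
noncomputable abbrev ptσ : Γ(G.R, ⊤) →+* Along (β.comp (σ G)) ⊗[Γ(G.U, ⊤)] Γ(G.R, ⊤) :=
  (algebraMap K _).comp β

theorem composable_τ : (inclAlong (β.comp (τ G))).comp (σ G) = (ptτ G β).comp (τ G) := by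
  rw [RingHom.comp_assoc]
  exact inclAlong_comp _

theorem composable_σ :
    (inclAlong (β.comp (σ G))).comp (σ G) = (invR G (ptσ G β)).comp (τ G) := by
  rw [invR_τ, RingHom.comp_assoc]
  exact inclAlong_comp _

/-- Translation. -/
noncomputable def θhom :
    Along (β.comp (σ G)) ⊗[Γ(G.U, ⊤)] Γ(G.R, ⊤) →ₐ[K]
      Along (β.comp (τ G)) ⊗[Γ(G.U, ⊤)] Γ(G.R, ⊤) :=
  liftAlong _ (mulR G (inclAlong _) (ptτ G β) (composable_τ G β)) (by
    change (mulR G _ _ _).comp (σ G) = _
    rw [mulR_σ, RingHom.comp_assoc])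

/-- The inverse translation. -/
noncomputable def θinv :
    Along (β.comp (τ G)) ⊗[Γ(G.U, ⊤)] Γ(G.R, ⊤) →ₐ[K]
      Along (β.comp (σ G)) ⊗[Γ(G.U, ⊤)] Γ(G.R, ⊤) :=
  liftAlong _ (mulR G (inclAlong _) (invR G (ptσ G β)) (composable_σ G β)) (by
    change (mulR G _ _ _).comp (σ G) = _
    rw [mulR_σ, invR_σ, RingHom.comp_assoc])

theorem θinv_θhom : (θinv G β).comp (θhom G β) = AlgHom.id K _ := by
  refine algHom_ext_along fun b ↦ ?_
  rw [AlgHom.comp_apply, θhom, liftAlong_tmul, AlgHom.id_apply]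
  have h1 : (θinv G β).toRingHom.comp (inclAlong (β.comp (τ G))) =
      mulR G (inclAlong _) (invR G (ptσ G β)) (composable_σ G β) :=
    RingHom.ext fun b ↦ liftAlong_tmul _ _ (θinv._proof_1 G β) b
  have h2 : (θinv G β).toRingHom.comp (ptτ G β) = ptσ G β :=
    RingHom.ext fun b ↦ (θinv G β).commutes (β b)
  have h3 := comp_mulR G (inclAlong (β.comp (τ G))) (ptτ G β) (θinv G β).toRingHom
    (composable_τ G β)
  simp only [h1, h2] at h3
  rw [mulR_cancel_invR G _ _ ((composable_σ G β).trans (invR_τ G _))] at h3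
  exact congr($h3 b)

theorem θhom_θinv : (θhom G β).comp (θinv G β) = AlgHom.id K _ := by
  refine algHom_ext_along fun b ↦ ?_
  rw [AlgHom.comp_apply, θinv, liftAlong_tmul, AlgHom.id_apply]
  have h1 : (θhom G β).toRingHom.comp (inclAlong (β.comp (σ G))) =
      mulR G (inclAlong _) (ptτ G β) (composable_τ G β) :=
    RingHom.ext fun b ↦ liftAlong_tmul _ _ (θhom._proof_1 G β) b
  have h2 : (θhom G β).toRingHom.comp (invR G (ptσ G β)) = invR G (ptτ G β) :=
    RingHom.ext fun b ↦ (θhom G β).commutes _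
  have h3 := comp_mulR G (inclAlong (β.comp (σ G))) (invR G (ptσ G β)) (θhom G β).toRingHom
    (composable_σ G β)
  simp only [h1, h2] at h3
  rw [mulR_invR_cancel G _ _ (composable_τ G β)] at h3
  exact congr($h3 b)

theorem θhom_tmul_τ (a : Γ(G.U, ⊤)) : θhom G β (1 ⊗ₜ τ G a) = 1 ⊗ₜ τ G a := by
  rw [θhom, liftAlong_tmul]
  exact congr($(mulR_τ G (inclAlong (β.comp (τ G))) (ptτ G β) (composable_τ G β)) a)

end Theta

/-- The translation algebra of an affine groupoid. -/
noncomputable def transAlg : TransAlg Γ(G.U, ⊤) Γ(G.R, ⊤) where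
  τ := τ G
  e := { toRingHom := G.e.appTop.hom, commutes' := fun a ↦ e_σ G a }
  e_τ a := e_τ G a
  θ β := AlgEquiv.ofAlgHom (θhom G β) (θinv G β) (θhom_θinv G β) (θinv_θhom G β)
  θ_τ β a := θhom_tmul_τ G β a

theorem transAlg_inv : (transAlg G).inv = G.invariants := rfl

theorem finite_algS [IsFinite G.s] : Module.Finite Γ(G.U, ⊤) Γ(G.R, ⊤) :=
  IsFinite.finite_app (f := G.s) (U := ⊤) (isAffineOpen_top _)

theorem projective_algS [IsFinite G.s] [Flat G.s] [LocallyOfFinitePresentation G.s] :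
    Module.Projective Γ(G.U, ⊤) Γ(G.R, ⊤) := by
  haveI := finite_algS G
  haveI : Module.Flat Γ(G.U, ⊤) Γ(G.R, ⊤) :=
    (HasRingHomProperty.iff_of_isAffine (P := @Flat)).1 ‹Flat G.s›
  haveI : Algebra.FinitePresentation Γ(G.U, ⊤) Γ(G.R, ⊤) :=
    (HasRingHomProperty.iff_of_isAffine (P := @LocallyOfFinitePresentation)).1
      ‹LocallyOfFinitePresentation G.s›
  haveI : Module.FinitePresentation Γ(G.U, ⊤) Γ(G.R, ⊤) :=
    Module.FinitePresentation.of_finite_of_finitePresentation _ _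
  exact Module.Flat.projective_of_finitePresentation

end Groth.Agent.Lib.GrpdQuot
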