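import Mathlib.AlgebraicGeometry.Morphisms.ClosedImmersion
import Mathlib.RingTheory.Norm.Basic
import Mathlib.FieldTheory.IsAlgClosed.Basic
import Groth.Agent.Lib.GrpdQuot.Bridge

/-!
# Affine finite locally free groupoids: invariants and the quotient map
-/

universe u

open CategoryTheory CategoryTheory.Limits AlgebraicGeometry
open scoped TensorProduct

namespace Groth.Agent.Lib.GrpdQuot

/-- Points with values in algebraically closed fields extend along integral extensions. -/
theorem exists_extend {C A k : Type u} [CommRing C] [CommRing A] [Algebra C A] [Field k]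
    [IsAlgClosed k] [Algebra.IsIntegral C A] (hinj : Function.Injective (algebraMap C A))
    (m : C →+* k) : ∃ x : A →+* k, x.comp (algebraMap C A) = m := by
  haveI := (RingHom.ker_isPrime m)
  obtain ⟨q, hq⟩ := RingHom.IsIntegral.comap_surjective (f := algebraMap C A)
    Algebra.IsIntegral.isIntegral hinj ⟨RingHom.ker m, inferInstance⟩
  have hq' : RingHom.ker m = q.asIdeal.comap (algebraMap C A) :=
    (congrArg PrimeSpectrum.asIdeal hq).symm
  letI : Algebra (C ⧸ RingHom.ker m) (A ⧸ q.asIdeal) :=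
    Ideal.Quotient.algebraQuotientOfLEComap hq'.le
  haveI : IsScalarTower C (C ⧸ RingHom.ker m) (A ⧸ q.asIdeal) :=
    .of_algebraMap_eq fun _ ↦ rfl
  haveI : Algebra.IsIntegral (C ⧸ RingHom.ker m) (A ⧸ q.asIdeal) :=
    Algebra.IsIntegral.tower_top (R := C)
  haveI : Module.IsTorsionFree (C ⧸ RingHom.ker m) (A ⧸ q.asIdeal) :=
    Module.isTorsionFree_iff_algebraMap_injective.2 (Ideal.quotientMap_injective' (H := hq'.le) hq'.ge)
  letI : Algebra (C ⧸ RingHom.ker m) k := (RingHom.kerLift m).toAlgebra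
  haveI : Module.IsTorsionFree (C ⧸ RingHom.ker m) k :=
    Module.isTorsionFree_iff_algebraMap_injective.2 (RingHom.kerLift_injective m)
  let L : (A ⧸ q.asIdeal) →ₐ[C ⧸ RingHom.ker m] k := IsAlgClosed.lift
  refine ⟨L.toRingHom.comp (Ideal.Quotient.mk q.asIdeal), RingHom.ext fun c ↦ ?_⟩
  exact L.commutes (Ideal.Quotient.mk _ c)

variable {S : Scheme.{u}} (G : Grpd.GroupoidScheme S) [IsAffine G.U] [IsAffine G.R]

attribute [local instance] algS

theorem toQuot_eq :
    G.toQuot = G.U.isoSpec.hom ≫ Spec.map (CommRingCat.ofHom G.invariants.subtype) := rfl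

theorem pt_toQuot {L : Type u} [CommRing L] (φ : Γ(G.U, ⊤) →+* L) :
    pt φ ≫ G.toQuot = Spec.map (CommRingCat.ofHom (φ.comp G.invariants.subtype)) := by
  simp only [toQuot_eq, pt, Category.assoc, Iso.inv_hom_id_assoc, ← Spec.map_comp]
  rfl

theorem s_toQuot : G.s ≫ G.toQuot = G.t ≫ G.toQuot := by
  simp only [toQuot_eq, ← Scheme.isoSpec_hom_naturality_assoc, ← Spec.map_comp]
  congr 2
  ext a
  exact a.2

section Finite

variable [IsFinite G.s] [Flat G.s] [LocallyOfFinitePresentation G.s]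

theorem exists_dualBasis_algS : Nonempty (DualBasis Γ(G.U, ⊤) Γ(G.R, ⊤)) := by
  haveI := finite_algS G
  haveI := projective_algS G
  exact DualBasis.exists_dualBasis

theorem isIntegral_invariants : Algebra.IsIntegral G.invariants Γ(G.U, ⊤) := by
  obtain ⟨D⟩ := exists_dualBasis_algS G
  exact (transAlg G).isIntegral_inv D

theorem normST_mem (f : Γ(G.U, ⊤)) : G.normST f ∈ G.invariants := by
  classical
  by_cases h : ∃ s : Finset Γ(G.R, ⊤), Nonempty (Module.Basis s Γ(G.U, ⊤) Γ(G.R, ⊤))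
  · obtain ⟨s, ⟨b⟩⟩ := h
    let b' := b.reindex s.equivFin
    obtain ⟨D⟩ := exists_dualBasis_algS G
    have e : G.normST f = (transAlg G).norm D f := by
      rw [TransAlg.norm, D.nrm_eq (DualBasis.ofBasis b'), DualBasis.nrm_ofBasis]
      rfl
    rw [e]
    exact (transAlg G).norm_mem D f
  · have e : G.normST f = 1 := Algebra.norm_eq_one_of_not_exists_basis _ h _
    rw [e]
    exact one_mem _

theorem algebraMap_invariants_injective :
    Function.Injective (algebraMap G.invariants Γ(G.U, ⊤)) := Subtype.val_injective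

theorem toQuot_surjective : Function.Surjective G.toQuot := by
  haveI := isIntegral_invariants G
  intro m
  obtain ⟨q, hq⟩ := RingHom.IsIntegral.comap_surjective
    (f := algebraMap G.invariants Γ(G.U, ⊤)) Algebra.IsIntegral.isIntegral
    (algebraMap_invariants_injective G) m
  refine ⟨G.U.isoSpec.inv q, ?_⟩
  rw [toQuot_eq, Scheme.Hom.comp_apply, ← Scheme.Hom.comp_apply G.U.isoSpec.inv,
    Iso.inv_hom_id]
  exact hq

theorem toQuot_eq_iff (u₀ u₁ : G.U) :
    G.toQuot u₀ = G.toQuot u₁ ↔ ∃ r : G.R, G.t r = u₀ ∧ G.s r = u₁ := by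
  constructor
  · intro h
    haveI := finite_algS G
    obtain ⟨D⟩ := exists_dualBasis_algS G
    let p₀ : PrimeSpectrum Γ(G.U, ⊤) := G.U.isoSpec.hom u₀
    let p₁ : PrimeSpectrum Γ(G.U, ⊤) := G.U.isoSpec.hom u₁
    have h' : p₁.asIdeal.comap (algebraMap G.invariants Γ(G.U, ⊤)) =
        p₀.asIdeal.comap (algebraMap G.invariants Γ(G.U, ⊤)) :=
      congrArg PrimeSpectrum.asIdeal h.symm
    obtain ⟨P, hP, h1, h0⟩ := (transAlg G).exists_prime_between D _ _ h'
    let P' : Spec Γ(G.R, ⊤) := ⟨P, hP⟩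
    refine ⟨G.R.isoSpec.inv P', ?_, ?_⟩
    · apply G.U.isoSpec.hom.homeomorph.injective
      change G.U.isoSpec.hom (G.t (G.R.isoSpec.inv P')) = G.U.isoSpec.hom u₀
      rw [← Scheme.Hom.comp_apply, ← Scheme.Hom.comp_apply,
        ← Scheme.isoSpec_hom_naturality, Iso.inv_hom_id_assoc]
      exact PrimeSpectrum.ext h0
    · apply G.U.isoSpec.hom.homeomorph.injective
      change G.U.isoSpec.hom (G.s (G.R.isoSpec.inv P')) = G.U.isoSpec.hom u₁
      rw [← Scheme.Hom.comp_apply, ← Scheme.Hom.comp_apply,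
        ← Scheme.isoSpec_hom_naturality, Iso.inv_hom_id_assoc]
      exact PrimeSpectrum.ext h1
  · rintro ⟨r, rfl, rfl⟩
    rw [← Scheme.Hom.comp_apply, ← Scheme.Hom.comp_apply, s_toQuot]

theorem exists_lift_point {k : Type u} [Field k] [IsAlgClosed k]
    (m : Spec (CommRingCat.of k) ⟶ Spec (CommRingCat.of G.invariants)) :
    ∃ x : Spec (CommRingCat.of k) ⟶ G.U, x ≫ G.toQuot = m := by
  haveI := isIntegral_invariants G
  obtain ⟨φ, hφ⟩ := exists_extend (A := Γ(G.U, ⊤)) (algebraMap_invariants_injective G)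
    (Spec.preimage m).hom
  refine ⟨pt φ, ?_⟩
  rw [pt_toQuot, show φ.comp G.invariants.subtype = (Spec.preimage m).hom from hφ,
    CommRingCat.ofHom_hom, Spec.map_preimage]

theorem point_eq_iff {k : Type u} [Field k] [IsAlgClosed k]
    (x₀ x₁ : Spec (CommRingCat.of k) ⟶ G.U) :
    x₀ ≫ G.toQuot = x₁ ≫ G.toQuot ↔
      ∃ r : Spec (CommRingCat.of k) ⟶ G.R, r ≫ G.t = x₀ ∧ r ≫ G.s = x₁ := by
  constructor
  · intro h
    haveI := finite_algS G
    obtain ⟨D⟩ := exists_dualBasis_algS G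
    have hc : ∀ c ∈ (transAlg G).inv, unpt x₀ c = unpt x₁ c := fun c hc ↦ by
      rw [← pt_unpt x₀, ← pt_unpt x₁, pt_toQuot, pt_toQuot] at h
      exact congr(($(Spec.map_injective h)).hom ⟨c, hc⟩)
    obtain ⟨r, hs, ht⟩ := (transAlg G).exists_point_between D (unpt x₀) (unpt x₁) hc
    exact ⟨pt r, by rw [pt_comp, ← pt_unpt x₀]; exact congrArg pt ht,
      by rw [pt_comp, ← pt_unpt x₁]; exact congrArg pt hs⟩
  · rintro ⟨r, rfl, rfl⟩
    rw [Category.assoc, Category.assoc, s_toQuot]

end Finite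

end Groth.Agent.Lib.GrpdQuot
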