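import Mathlib.RingTheory.Flat.Basic
import Mathlib.FieldTheory.IsAlgClosed.AlgebraicClosure
import Mathlib.RingTheory.Nilpotent.Lemmas
import Groth.Agent.Lib.GrpdQuot.Affine

/-!
# Base change of the ring of invariants
-/

universe u

open scoped TensorProduct

namespace Groth.Agent.Lib.GrpdQuot

section Idem

open Polynomial

variable {A : Type u} [CommRing A] {n : ℕ} (E : Matrix (Fin n) (Fin n) A)

/-- `det (1 + (X - 1) E)`, the generating polynomial of the rank idempotents of an idempotent `E`. -/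
noncomputable def rankPoly : A[X] := (1 + (X - 1 : A[X]) • E.map C).det

theorem eval₂_rankPoly {K : Type u} [CommRing K] (g : A →+* K) (t : K) :
    (rankPoly E).eval₂ g t = (1 + (t - 1) • E.map g).det := by
  rw [rankPoly, ← coe_eval₂RingHom, RingHom.map_det]
  congr 1
  ext i j
  simp [Matrix.one_apply, apply_ite]

variable {E}

theorem rankPoly_mul (hE : E * E = E) {K : Type u} [CommRing K] (g : A →+* K) (s t : K) :
    (rankPoly E).eval₂ g s * (rankPoly E).eval₂ g t = (rankPoly E).eval₂ g (s * t) := by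
  rw [eval₂_rankPoly, eval₂_rankPoly, eval₂_rankPoly, ← Matrix.det_mul]
  congr 1
  rw [add_mul, mul_add, mul_add, Matrix.one_mul, Matrix.one_mul, Matrix.mul_one,
    Matrix.smul_mul, Matrix.mul_smul, ← Matrix.map_mul, hE, smul_smul, add_assoc, ← add_smul,
    ← add_smul]
  congr 2
  ring

theorem rankPoly_coeff_mul (hE : E * E = E) (r s : ℕ) :
    (rankPoly E).coeff r * (rankPoly E).coeff s =
      if r = s then (rankPoly E).coeff r else 0 := by
  classical
  let g : A →+* A[X][X] := C.comp C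
  have h := congrArg (fun p : A[X][X] ↦ (p.coeff s).coeff r)
    (rankPoly_mul hE g (C X) X)
  simp only [g] at h
  have e1 : (rankPoly E).eval₂ (C.comp C) (C X : A[X][X]) = C (rankPoly E) := by
    rw [← hom_eval₂, eval₂_C_X]
  have e2 : (rankPoly E).eval₂ (C.comp C) (X : A[X][X]) = (rankPoly E).map C := by
    rw [← eval₂_map, eval₂_C_X]
  have e3 : (rankPoly E).eval₂ (C.comp C) (C X * X : A[X][X]) =
      ∑ k ∈ (rankPoly E).support, C (C ((rankPoly E).coeff k) * X ^ k) * X ^ k := by
    rw [eval₂_eq_sum, Polynomial.sum]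
    refine Finset.sum_congr rfl fun k _ ↦ ?_
    rw [RingHom.comp_apply, mul_pow, map_mul, map_pow, mul_assoc]
  rw [e1, e2, e3, coeff_C_mul, coeff_map, coeff_mul_C, finset_sum_coeff] at h
  simp only [coeff_C_mul_X_pow] at h
  rw [Finset.sum_eq_single s (fun b _ hb ↦ if_neg (Ne.symm hb))
    (fun hs ↦ by simp [notMem_support_iff.1 hs]), if_pos rfl, coeff_C_mul_X_pow] at h
  rw [h]
  split_ifs with h' <;> simp_all

theorem rankPoly_eval_one : (rankPoly E).eval 1 = 1 := by
  rw [← eval₂_id, eval₂_rankPoly, sub_self, zero_smul, add_zero, Matrix.det_one]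

end Idem

namespace TransAlg

open Polynomial

variable {A B : Type u} [CommRing A] [CommRing B] [Algebra A B] (G : TransAlg A B)
  (D : DualBasis A B)

theorem mat_one_idem : D.mat 1 * D.mat 1 = D.mat 1 := by rw [← D.mat_mul, one_mul]

theorem rankPoly_coeff_mem (r : ℕ) : (rankPoly (D.mat 1)).coeff r ∈ G.inv := by
  let g : A →+* A[X] := C
  have h1 : (G.normMat D g ![1] ![X]).det = rankPoly (D.mat 1) := by
    rw [rankPoly]
    congr 1
    have : G.mulτ 1 = 1 := by ext; simp [mulτ]
    simp [normMat, g, this, sub_smul]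
  have h2 := G.eval_normPoly D g ![1] ![X]
  rw [h1] at h2
  rw [← h2, MvPolynomial.eval₂_eq', finset_sum_coeff]
  refine Subring.sum_mem _ fun d _ ↦ ?_
  simp only [g, Fin.prod_univ_one, Matrix.cons_val_zero, coeff_C_mul, coeff_X_pow]
  refine Subring.mul_mem _ (G.normPoly_coeff_mem D _ d) ?_
  split_ifs
  · exact Subring.one_mem _
  · exact Subring.zero_mem _

include G in
theorem rankPoly_coeff_zero : (rankPoly (D.mat 1)).coeff 0 = 0 := by
  have h : D.nrm (0 : Module.End A B) = 0 :=
    DualBasis.nrm_eq_zero_of_functional D G.e.toLinearMap 1 (map_one G.e) fun q ↦ by simp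
  rw [coeff_zero_eq_eval_zero, ← eval₂_id, eval₂_rankPoly]
  refine Eq.trans ?_ h
  rw [DualBasis.nrm, DualBasis.mat_sub, DualBasis.mat_zero]
  congr 1
  ext i j
  simp

variable {C' : Type u} [CommRing C'] [Algebra G.inv C'] [Algebra G.inv B]
  [IsScalarTower G.inv A B]

include D in
/-- Invariants of a base change are power-integral over the base. -/
theorem exists_pow_poly (sT tT : A ⊗[G.inv] C' →ₐ[G.inv] B ⊗[G.inv] C')
    (hs : ∀ a c, sT (a ⊗ₜ c) = algebraMap A B a ⊗ₜ c) (ht : ∀ a c, tT (a ⊗ₜ c) = G.τ a ⊗ₜ c)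
    (f : A ⊗[G.inv] C') (hf : sT f = tT f) :
    ∃ (N : ℕ) (P : C'[X]), 0 < N ∧
      P.map (Algebra.TensorProduct.includeRight : C' →ₐ[G.inv] A ⊗[G.inv] C').toRingHom =
        (X - C f) ^ N := by
  classical
  obtain ⟨S, hS⟩ := TensorProduct.exists_finset f
  let m := S.card
  let av : Fin (m + 1) → A := Fin.cons 1 fun l ↦ (S.equivFin.symm l).1.1
  let cv : Fin m → C' := fun l ↦ (S.equivFin.symm l).1.2
  have hfs : f = ∑ l, av l.succ ⊗ₜ cv l := by
    rw [hS, ← Finset.sum_coe_sort S]
    simp only [av, cv, Fin.cons_succ]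
    exact (S.equivFin.symm.sum_comp fun q ↦ q.1.1 ⊗ₜ[G.inv] q.1.2).symm
  let ι : C' →+* A ⊗[G.inv] C' :=
    (Algebra.TensorProduct.includeRight : C' →ₐ[G.inv] A ⊗[G.inv] C').toRingHom
  let g : A →+* (A ⊗[G.inv] C')[X] :=
    C.comp (Algebra.TensorProduct.includeLeftRingHom (R := G.inv))
  let wv : Fin (m + 1) → C'[X] := Fin.cons X fun l ↦ -C (cv l)
  let np : MvPolynomial (Fin (m + 1)) A := G.normPoly D av
  let Q : C'[X] := ∑ d ∈ np.support,
    C (algebraMap G.inv C' ⟨np.coeff d, G.normPoly_coeff_mem D av d⟩) * ∏ i, wv i ^ d i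
  -- the image of `Q`
  have hιC : ∀ c : G.inv,
      Algebra.TensorProduct.includeLeftRingHom (R := G.inv) (A := A) (B := C') (c : A) =
        ι (algebraMap G.inv C' c) := fun c ↦ by
    change (c : A) ⊗ₜ[G.inv] (1 : C') = (1 : A) ⊗ₜ algebraMap G.inv C' c
    rw [Algebra.algebraMap_eq_smul_one, TensorProduct.tmul_smul, TensorProduct.smul_tmul',
      Algebra.smul_def, mul_one]
    rfl
  have hQ : Q.map ι = (G.normMat D g av fun i ↦ (wv i).map ι).det := by
    rw [← G.eval_normPoly D g av, MvPolynomial.eval₂_eq']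
    simp only [Q, Polynomial.map_sum, Polynomial.map_mul, Polynomial.map_prod, Polynomial.map_pow,
      map_C]
    refine Finset.sum_congr rfl fun d _ ↦ ?_
    congr 1
    rw [← hιC]
    rfl
  let R := rankPoly (D.mat 1)
  have key : ∀ i j, ∑ l, ((D.mat (G.mulτ (av l.succ))) i j ⊗ₜ[G.inv] cv l) =
      f * ((D.mat 1) i j ⊗ₜ[G.inv] (1 : C')) := fun i j ↦ by
    let Φ : B →ₗ[G.inv] A :=
      ((D.ξ i) ∘ₗ LinearMap.mulRight A (D.v j)).restrictScalars G.inv
    have h := congrArg (TensorProduct.map Φ (LinearMap.id : C' →ₗ[G.inv] C')) hf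
    simp only [hfs, map_sum, hs, ht, TensorProduct.map_tmul, LinearMap.id_apply, Φ] at h
    rw [hfs, Finset.sum_mul]
    refine h.symm.trans (Finset.sum_congr rfl fun l _ ↦ ?_)
    rw [Algebra.TensorProduct.tmul_mul_tmul, mul_one]
    congr 1
    change D.ξ i (algebraMap A B (av l.succ) * D.v j) = _
    rw [← Algebra.smul_def, map_smul]
    rfl
  have hQR : Q.map ι = R.eval₂ g (X - C f) := by
    rw [hQ, eval₂_rankPoly]
    congr 1
    refine Matrix.ext fun i j ↦ ?_
    have hsum : ∑ l : Fin m,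
        (wv l.succ).map ι * g ((D.mat (G.mulτ (av l.succ))) i j) =
        -(C f * g ((D.mat 1) i j)) := by
      simp only [wv, Fin.cons_succ, Polynomial.map_neg, map_C, neg_mul, Finset.sum_neg_distrib]
      refine (Finset.sum_congr rfl fun l _ ↦ _root_.neg_mul (C (ι (cv l))) _).trans ?_
      rw [Finset.sum_neg_distrib, neg_inj]
      simp only [g, RingHom.comp_apply, ← map_mul, ← map_sum]
      congr 1
      refine Eq.trans (Finset.sum_congr rfl fun l _ ↦ ?_) (key i j)
      change ((1 : A) ⊗ₜ cv l) * (_ ⊗ₜ (1 : C')) = _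
      rw [Algebra.TensorProduct.tmul_mul_tmul, one_mul, mul_one]
    have h1 : G.mulτ 1 = 1 := by ext; simp [mulτ]
    simp only [normMat, Matrix.add_apply, Matrix.sub_apply, Matrix.sum_apply, Matrix.smul_apply,
      Matrix.map_apply, Fin.sum_univ_succ, smul_eq_mul]
    rw [hsum]
    simp only [wv, av, Fin.cons_zero, h1, map_X]
    ring
  -- idempotents
  let ε : ℕ → C' := fun r ↦ algebraMap G.inv C' ⟨R.coeff r, G.rankPoly_coeff_mem D r⟩
  have hε : ∀ r, g (R.coeff r) = (C (ε r)).map ι := fun r ↦ by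
    rw [map_C]
    exact congrArg C (hιC ⟨R.coeff r, G.rankPoly_coeff_mem D r⟩)
  have horth : ∀ r s, g (R.coeff r) * g (R.coeff s) = if r = s then g (R.coeff r) else 0 :=
    fun r s ↦ by rw [← map_mul, rankPoly_coeff_mul (mat_one_idem D)]; split_ifs <;> simp [R]
  have hsum : ∑ r ∈ R.support, g (R.coeff r) = 1 := by
    rw [← map_sum, ← map_one g, ← rankPoly_eval_one (E := D.mat 1), eval_eq_sum, Polynomial.sum]
    congr 1
    exact Finset.sum_congr rfl fun r _ ↦ by rw [one_pow, mul_one]
  let N := R.natDegree.factorial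
  have hdiv : ∀ r ∈ R.support, ∃ k, N = r * k := fun r hr ↦
    Nat.dvd_factorial (Nat.pos_of_ne_zero fun h0 ↦ mem_support_iff.1 hr
      (by rw [h0]; exact G.rankPoly_coeff_zero D)) (le_natDegree_of_mem_supp _ hr)
  choose k hk using hdiv
  refine ⟨N, ∑ r ∈ R.support.attach, C (ε r.1) * Q ^ k r.1 r.2, Nat.factorial_pos _, ?_⟩
  set Y : (A ⊗[G.inv] C')[X] := X - C f with hY
  have hpow : ∀ r ∈ R.support, ∀ j : ℕ, g (R.coeff r) * R.eval₂ g Y ^ j =
      g (R.coeff r) * (Y ^ r) ^ j := fun r hr j ↦ by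
    induction j with
    | zero => simp
    | succ j ih =>
      have h1 : g (R.coeff r) * R.eval₂ g Y = g (R.coeff r) * Y ^ r := by
        rw [eval₂_eq_sum, Polynomial.sum, Finset.mul_sum, Finset.sum_eq_single_of_mem r hr
          fun b _ hb ↦ by rw [← mul_assoc, horth, if_neg (Ne.symm hb), zero_mul],
          ← mul_assoc, horth, if_pos rfl]
      calc g (R.coeff r) * R.eval₂ g Y ^ (j + 1)
          = (g (R.coeff r) * R.eval₂ g Y ^ j) * R.eval₂ g Y := by ring
        _ = (Y ^ r) ^ j * (g (R.coeff r) * R.eval₂ g Y) := by rw [ih]; ring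
        _ = g (R.coeff r) * (Y ^ r) ^ (j + 1) := by rw [h1]; ring
  rw [Polynomial.map_sum]
  calc ∑ r ∈ R.support.attach, (C (ε r.1) * Q ^ k r.1 r.2).map ι
      = ∑ r ∈ R.support.attach, g (R.coeff r.1) * Y ^ N := Finset.sum_congr rfl fun r _ ↦ by
        rw [Polynomial.map_mul, Polynomial.map_pow, hQR, ← hε, hpow r.1 r.2, ← pow_mul,
          ← hk r.1 r.2]
    _ = Y ^ N := by
        rw [Finset.sum_attach R.support (fun r ↦ g (R.coeff r) * Y ^ N), ← Finset.sum_mul, hsum,
          one_mul]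

include D in
/-- The kernel of the base change map is nilpotent. -/
theorem isNilpotent_of_includeRight_eq_zero (c : C')
    (hc : (Algebra.TensorProduct.includeRight : C' →ₐ[G.inv] A ⊗[G.inv] C') c = 0) :
    IsNilpotent c := by
  rw [← mem_nilradical, nilradical_eq_sInf, Submodule.mem_sInf]
  intro (p : Ideal C') hp
  haveI : p.IsPrime := hp
  haveI : Algebra.IsIntegral G.inv A := G.isIntegral_inv D
  let φ : C' →+* AlgebraicClosure p.ResidueField :=
    (algebraMap p.ResidueField _).comp (algebraMap C' p.ResidueField)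
  obtain ⟨x, hx⟩ := exists_extend (C := G.inv) (A := A) Subtype.val_injective
    (φ.comp (algebraMap G.inv C'))
  letI := (φ.comp (algebraMap G.inv C')).toAlgebra
  let xA : A →ₐ[G.inv] AlgebraicClosure p.ResidueField :=
    { x with commutes' := fun c ↦ congr($hx c) }
  let φA : C' →ₐ[G.inv] AlgebraicClosure p.ResidueField := { φ with commutes' := fun _ ↦ rfl }
  have h := congrArg (Algebra.TensorProduct.lift xA φA fun _ _ ↦ mul_comm _ _) hc
  rw [Algebra.TensorProduct.includeRight_apply, Algebra.TensorProduct.lift_tmul, map_one, one_mul,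
    map_zero] at h
  exact (Ideal.algebraMap_residueField_eq_zero).1
    ((algebraMap p.ResidueField (AlgebraicClosure p.ResidueField)).injective
      (h.trans (map_zero _).symm))

/-- The comparison map is bijective for a flat base change. -/
theorem bijective_of_flat [Module.Flat G.inv C']
    (sT tT : A ⊗[G.inv] C' →ₐ[G.inv] B ⊗[G.inv] C')
    (hs : ∀ a c, sT (a ⊗ₜ c) = algebraMap A B a ⊗ₜ c) (ht : ∀ a c, tT (a ⊗ₜ c) = G.τ a ⊗ₜ c) :
    Function.Injective (Algebra.TensorProduct.includeRight : C' →ₐ[G.inv] A ⊗[G.inv] C') ∧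
      ∀ f, sT f = tT f →
        f ∈ Set.range (Algebra.TensorProduct.includeRight : C' →ₐ[G.inv] A ⊗[G.inv] C') := by
  let ι : G.inv →ₗ[G.inv] A := Algebra.linearMap G.inv A
  let σl : A →ₗ[G.inv] B := (Algebra.linearMap A B).restrictScalars G.inv
  let τl : A →ₗ[G.inv] B :=
    { toFun := G.τ
      map_add' := map_add G.τ
      map_smul' := fun c a ↦ by
        change G.τ ((c : A) * a) = c • G.τ a
        rw [map_mul, ← show algebraMap A B c = G.τ c from c.2, ← algebraMap_smul A c (G.τ a),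
          ← Algebra.smul_def]
        rfl }
  have hex : Function.Exact ι (σl - τl) := fun a ↦ by
    rw [LinearMap.sub_apply, sub_eq_zero]
    exact ⟨fun h ↦ ⟨⟨a, h⟩, rfl⟩, fun ⟨c, hc⟩ ↦ hc ▸ c.2⟩
  have hinj : Function.Injective (ι.rTensor C') :=
    Module.Flat.rTensor_preserves_injective_linearMap ι Subtype.val_injective
  have hincl : ∀ c : C', (Algebra.TensorProduct.includeRight : C' →ₐ[G.inv] A ⊗[G.inv] C') c =
      ι.rTensor C' ((TensorProduct.lid G.inv C').symm c) := fun c ↦ by simp [ι]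
  refine ⟨fun c c' h ↦ ?_, fun f hf ↦ ?_⟩
  · rw [hincl, hincl] at h
    exact (TensorProduct.lid G.inv C').symm.injective (hinj h)
  · have hsl : ∀ z, sT z = σl.rTensor C' z := fun z ↦ by
      induction z with
      | zero => simp
      | add x y hx hy => simp [hx, hy]
      | tmul a c => exact hs a c
    have htl : ∀ z, tT z = τl.rTensor C' z := fun z ↦ by
      induction z with
      | zero => simp
      | add x y hx hy => simp [hx, hy]
      | tmul a c => exact ht a c
    obtain ⟨z, rfl⟩ := (Module.Flat.rTensor_exact C' hex f).1 (by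
      rw [LinearMap.rTensor_sub, LinearMap.sub_apply, ← hsl, ← htl, hf, sub_self])
    exact ⟨TensorProduct.lid G.inv C' z, by rw [hincl, LinearEquiv.symm_apply_apply]⟩

end TransAlg

end Groth.Agent.Lib.GrpdQuot
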