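import Mathlib.AlgebraicGeometry.Sites.Fpqc
import Mathlib.CategoryTheory.Limits.Shapes.RegularMono
import Groth.Agent.Lib.AlgSpace.Quot

/-!
# An fppf cover with kernel pair `R` exhibits its target as the quotient sheaf `U/R`
-/

universe u

open CategoryTheory CategoryTheory.Limits AlgebraicGeometry

namespace Groth.Agent.Lib.GrpdQuot

open Groth.Agent.Lib.AlgSpace

variable {S : Scheme.{u}}

open AlgSp (Sp yon)

theorem isPullback_yon_of_left {R U M : Over S} {s t : R ⟶ U} {q : U ⟶ M}
    (sq : IsPullback t.left s.left q.left q.left) :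
    IsPullback ((yon S).map t) ((yon S).map s) ((yon S).map q) ((yon S).map q) :=
  (IsPullback.of_map (Over.forget S) (Over.OverMorphism.ext sq.w) sq).map (yon S)

/-- An fppf cover with kernel pair `R` exhibits its target as the quotient sheaf `U/R`. -/
theorem isQuotient_of_fppfCover {R U M : Over S} (s t : R ⟶ U) (q : U ⟶ M)
    (hq : fppfCover q.left) (sq : IsPullback t.left s.left q.left q.left) :
    QuotSh.IsQuotient Scheme.fppfPrecoverage s t q := by
  have w : s ≫ q = t ≫ q := Over.OverMorphism.ext sq.w.symm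
  refine ⟨w, ?_⟩
  haveI := isLocallySurjective_yon_map q hq
  obtain ⟨l, hl⟩ := exists_desc ((yon S).map q) (isPullback_yon_of_left sq) (quotMap s t)
    (quotMap_condition s t).symm
  let inv := (QuotSh.repIsoUliftYoneda Scheme.fppfPrecoverage M).hom ≫ l
  have h1 : QuotSh.quotπ Scheme.fppfPrecoverage s t ≫ QuotSh.quotDesc _ q w =
      QuotSh.repMap Scheme.fppfPrecoverage q := coequalizer.π_desc _ _
  have h2 : QuotSh.repMap Scheme.fppfPrecoverage q ≫ inv =
      QuotSh.quotπ Scheme.fppfPrecoverage s t := by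
    simp [inv, repMap_repIso_hom_assoc, hl, quotMap]
  haveI : Epi (QuotSh.quotπ Scheme.fppfPrecoverage s t) := coequalizer.π_epi
  haveI := epi_yon_map q hq
  haveI : Epi (QuotSh.repMap Scheme.fppfPrecoverage q) := by
    have e : QuotSh.repMap Scheme.fppfPrecoverage q =
        (QuotSh.repIsoUliftYoneda _ U).hom ≫ (yon S).map q ≫
          (QuotSh.repIsoUliftYoneda _ M).inv := by
      rw [← repMap_repIso_hom_assoc, Iso.hom_inv_id, Category.comp_id]
    rw [e]
    infer_instance
  refine ⟨⟨inv, ?_, ?_⟩⟩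
  · rw [← cancel_epi (QuotSh.quotπ Scheme.fppfPrecoverage s t), reassoc_of% h1, h2]
    exact (Category.comp_id _).symm
  · rw [← cancel_epi (QuotSh.repMap Scheme.fppfPrecoverage q), reassoc_of% h2, h1]
    exact (Category.comp_id _).symm

/-- Morphisms descend along a quasi-compact flat surjection. -/
theorem exists_desc_scheme {X Y P Z : Scheme.{u}} (f : X ⟶ Y) [QuasiCompact f] [Surjective f]
    [Flat f] {p₁ p₂ : P ⟶ X} (sq : IsPullback p₁ p₂ f f) (k : X ⟶ Z) (w : p₁ ≫ k = p₂ ≫ k) :
    ∃! m : Y ⟶ Z, f ≫ m = k := by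
  let h : IsColimit (Cofork.ofπ f sq.w) :=
    isColimitCoforkOfEffectiveEpi f sq.cone sq.isLimit
  exact ⟨Cofork.IsColimit.desc h k w, Cofork.IsColimit.π_desc' h k w,
    fun m hm ↦ (cancel_epi f).1 (hm.trans (Cofork.IsColimit.π_desc' h k w).symm)⟩

end Groth.Agent.Lib.GrpdQuot
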