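import Mathlib.AlgebraicGeometry.Morphisms.Finite
import Mathlib.AlgebraicGeometry.Morphisms.Proper
import Mathlib.AlgebraicGeometry.Morphisms.QuasiSeparated
import Groth.Agent.Lib.GrpdQuot.Quotient

/-!
# Separation descends along finite surjective maps; quotient maps are surjective
-/

universe u

open CategoryTheory CategoryTheory.Limits AlgebraicGeometry

namespace Groth.Agent.Lib.GrpdQuot

open Groth.Agent.Lib.AlgSpace
open AlgSp (Sp yon)

theorem surjective_of_isQuotient {S : Scheme.{u}} {R U M : Over S} {s t : R ⟶ U} {q : U ⟶ M}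
    (h : QuotSh.IsQuotient Scheme.fppfPrecoverage s t q) : Surjective q.left := by
  obtain ⟨w, hiso⟩ := h
  haveI := hiso
  have e : (yon S).map q = quotMap s t ≫ QuotSh.quotDesc _ q w ≫
      (QuotSh.repIsoUliftYoneda Scheme.fppfPrecoverage M).hom := by
    have h1 : QuotSh.quotπ Scheme.fppfPrecoverage s t ≫ QuotSh.quotDesc _ q w =
      QuotSh.repMap Scheme.fppfPrecoverage q := coequalizer.π_desc _ _
    simp [quotMap, reassoc_of% h1, repMap_repIso_hom]
  haveI : Epi ((yon S).map q) := by
    haveI := epi_quotMap s t
    rw [e]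
    infer_instance
  haveI : Sheaf.IsLocallySurjective ((yon S).map q) :=
    (Sheaf.isLocallySurjective_iff_epi' (Type (u + 1)) _).2 ‹_›
  obtain ⟨M', p, x, hp, hx⟩ := exists_lift_of_isLocallySurjective ((yon S).map q) (𝟙 _)
  obtain ⟨x, rfl⟩ := (yon S).map_surjective x
  rw [Category.comp_id, ← Functor.map_comp] at hx
  haveI : Surjective (x.left ≫ q.left) := by
    rw [← Over.comp_left, (yon S).map_injective hx]
    exact hp.1.1
  exact Surjective.of_comp x.left q.left

variable {X Y Z : Scheme.{u}} (f : X ⟶ Y) [IsFinite f] [Surjective f] (g : Y ⟶ Z)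

theorem diagonal_comp_map :
    pullback.diagonal (f ≫ g) ≫
      pullback.map (f ≫ g) (f ≫ g) g g f f (𝟙 Z) (Category.comp_id _) (Category.comp_id _) =
      f ≫ pullback.diagonal g := by
  apply pullback.hom_ext <;> simp [pullback.map, pullback.lift_fst, pullback.lift_snd]

theorem quasiSeparated_of_finite_surjective [QuasiSeparated (f ≫ g)] : QuasiSeparated g := by
  let k := pullback.map (f ≫ g) (f ≫ g) g g f f (𝟙 Z) (Category.comp_id _) (Category.comp_id _)
  haveI : QuasiCompact k :=
    MorphismProperty.pullback_map (P := @QuasiCompact) inferInstance inferInstance rfl rfl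
  haveI : QuasiCompact (pullback.diagonal (f ≫ g) ≫ k) := inferInstance
  rw [quasiSeparated_iff]
  constructor
  intro V hVo hVc
  have h := QuasiCompact.isCompact_preimage (f := pullback.diagonal (f ≫ g) ≫ k) V hVo hVc
  simp only [k, diagonal_comp_map] at h
  have := h.image f.continuous
  rwa [Scheme.Hom.comp_base, TopCat.coe_comp, Set.preimage_comp,
    Set.image_preimage_eq _ (Surjective.surj (f := f))] at this

theorem isSeparated_of_finite_surjective [IsSeparated (f ≫ g)] : IsSeparated g := by
  let k := pullback.map (f ≫ g) (f ≫ g) g g f f (𝟙 Z) (Category.comp_id _) (Category.comp_id _)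
  haveI : UniversallyClosed k :=
    MorphismProperty.pullback_map (P := @UniversallyClosed) inferInstance inferInstance rfl rfl
  have h : IsClosed (Set.range (pullback.diagonal (f ≫ g) ≫ k)) := by
    rw [Scheme.Hom.comp_base, TopCat.coe_comp, Set.range_comp]
    exact k.isClosedMap _ (pullback.diagonal (f ≫ g)).isClosedEmbedding.isClosed_range
  rw [isSeparated_iff]
  refine IsClosedImmersion.of_isPreimmersion _ ?_
  have e : Set.range (pullback.diagonal (f ≫ g) ≫ k) = Set.range (pullback.diagonal g) := by
    simp only [k, diagonal_comp_map, Scheme.Hom.comp_base, TopCat.coe_comp]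
    exact (Surjective.surj (f := f)).range_comp _
  rwa [← e]

end Groth.Agent.Lib.GrpdQuot
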