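import Mathlib.AlgebraicGeometry.Morphisms.Finite
import Mathlib.AlgebraicGeometry.Morphisms.Flat
import Mathlib.AlgebraicGeometry.Morphisms.FinitePresentation
import Groth.Prelude.Def_Grpd

/-!
# Restriction of a groupoid scheme to an invariant open
-/

universe u

open CategoryTheory CategoryTheory.Limits AlgebraicGeometry

namespace Groth.Agent.Lib.GrpdQuot

variable {S : Scheme.{u}} (G : Grpd.GroupoidScheme S) (W : G.U.Opens)
  (hW : G.s ⁻¹ᵁ W = G.t ⁻¹ᵁ W)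

include hW

/-- The restricted source. -/
noncomputable abbrev sW : (G.s ⁻¹ᵁ W).toScheme ⟶ W.toScheme := G.s.resLE W _ le_rfl

/-- The restricted target. -/
noncomputable abbrev tW : (G.s ⁻¹ᵁ W).toScheme ⟶ W.toScheme := G.t.resLE W _ hW.le

theorem le_e : W ≤ G.e ⁻¹ᵁ (G.s ⁻¹ᵁ W) := by
  rw [← Scheme.Hom.comp_preimage, G.e_s]
  exact le_rfl

theorem le_i : (G.s ⁻¹ᵁ W) ≤ G.i ⁻¹ᵁ (G.s ⁻¹ᵁ W) := by
  rw [← Scheme.Hom.comp_preimage, G.i_s]
  exact hW.le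

/-- Pairs of restricted arrows give pairs of arrows. -/
noncomputable abbrev pairW : pullback (sW G W) (tW G W hW) ⟶ pullback G.s G.t :=
  pullback.map _ _ _ _ (G.s ⁻¹ᵁ W).ι (G.s ⁻¹ᵁ W).ι W.ι (Scheme.Hom.resLE_comp_ι _ _)
    (Scheme.Hom.resLE_comp_ι _ _)

theorem pairW_eq : pairW G W hW = pullback.lift (pullback.fst _ _ ≫ (G.s ⁻¹ᵁ W).ι)
    (pullback.snd _ _ ≫ (G.s ⁻¹ᵁ W).ι) (by
      simp only [Category.assoc, ← Scheme.Hom.resLE_comp_ι _ le_rfl,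
        ← Scheme.Hom.resLE_comp_ι _ hW.le, pullback.condition_assoc]) :=
  rfl

theorem range_pair : Set.range (pairW G W hW ≫ G.c) ⊆ Set.range (G.s ⁻¹ᵁ W).ι := by
  rw [Scheme.Opens.range_ι]
  rintro _ ⟨z, rfl⟩
  change G.s ((pairW G W hW ≫ G.c) z) ∈ W
  rw [← Scheme.Hom.comp_apply]
  have h := G.comp_s (pullback.fst (sW G W) (tW G W hW) ≫ (G.s ⁻¹ᵁ W).ι)
    (pullback.snd _ _ ≫ (G.s ⁻¹ᵁ W).ι) (by
      simp only [Category.assoc, ← Scheme.Hom.resLE_comp_ι _ le_rfl,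
        ← Scheme.Hom.resLE_comp_ι _ hW.le, pullback.condition_assoc])
  rw [pairW_eq, h, Category.assoc, Scheme.Hom.comp_apply]
  exact (pullback.snd (sW G W) (tW G W hW) z).2

/-- Restricted composition. -/
noncomputable def cW : pullback (sW G W) (tW G W hW) ⟶ (G.s ⁻¹ᵁ W).toScheme :=
  IsOpenImmersion.lift (G.s ⁻¹ᵁ W).ι (pairW G W hW ≫ G.c) (range_pair G W hW)

theorem cW_ι : cW G W hW ≫ (G.s ⁻¹ᵁ W).ι = pairW G W hW ≫ G.c := IsOpenImmersion.lift_fac _ _ _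

theorem lift_cW_ι {T : Scheme.{u}} (α β : T ⟶ (G.s ⁻¹ᵁ W).toScheme)
    (h : α ≫ sW G W = β ≫ tW G W hW) :
    (pullback.lift α β h ≫ cW G W hW) ≫ (G.s ⁻¹ᵁ W).ι =
      pullback.lift (α ≫ (G.s ⁻¹ᵁ W).ι) (β ≫ (G.s ⁻¹ᵁ W).ι) (by
        simp only [Category.assoc, ← Scheme.Hom.resLE_comp_ι _ le_rfl,
          ← Scheme.Hom.resLE_comp_ι _ hW.le, reassoc_of% h]) ≫ G.c := by
  rw [Category.assoc, cW_ι, ← Category.assoc]
  congr 1
  apply pullback.hom_ext <;>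
    simp [pullback.lift_fst, pullback.lift_snd, pullback.lift_fst_assoc, pullback.lift_snd_assoc]

omit hW in
theorem lift_c_congr {T : Scheme.{u}} {a a' b b' : T ⟶ G.R} (ha : a = a') (hb : b = b')
    (h : a ≫ G.s = b ≫ G.t) (h' : a' ≫ G.s = b' ≫ G.t) :
    pullback.lift a b h ≫ G.c = pullback.lift a' b' h' ≫ G.c := by
  subst ha hb; rfl

/-- The restriction of a groupoid scheme to an invariant open. -/
noncomputable def restrictGrpd : Grpd.GroupoidScheme S where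
  U := W
  R := G.s ⁻¹ᵁ W
  pU := W.ι ≫ G.pU
  pR := (G.s ⁻¹ᵁ W).ι ≫ G.pR
  s := sW G W
  t := tW G W hW
  e := G.e.resLE _ _ (le_e G W hW)
  i := G.i.resLE _ _ (le_i G W hW)
  c := cW G W hW
  s_over := by rw [Scheme.Hom.resLE_comp_ι_assoc, G.s_over]
  t_over := by rw [Scheme.Hom.resLE_comp_ι_assoc, G.t_over]
  comp_s α β h := by
    rw [← cancel_mono W.ι, Category.assoc _ _ W.ι, Category.assoc _ _ W.ι,
      Scheme.Hom.resLE_comp_ι, ← Category.assoc _ _ G.s, lift_cW_ι, G.comp_s, Category.assoc]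
  comp_t α β h := by
    rw [← cancel_mono W.ι, Category.assoc _ _ W.ι, Category.assoc _ _ W.ι,
      Scheme.Hom.resLE_comp_ι, ← Category.assoc _ _ G.t, lift_cW_ι, G.comp_t, Category.assoc]
  assoc α β γ h₁ h₂ := by
    rw [← cancel_mono (G.s ⁻¹ᵁ W).ι]
    refine (lift_cW_ι G W hW _ _ _).trans (Eq.trans ?_ (lift_cW_ι G W hW _ _ _).symm)
    have k₁ : (α ≫ (G.s ⁻¹ᵁ W).ι) ≫ G.s = (β ≫ (G.s ⁻¹ᵁ W).ι) ≫ G.t := by
      simp only [Category.assoc, ← Scheme.Hom.resLE_comp_ι _ le_rfl,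
        ← Scheme.Hom.resLE_comp_ι _ hW.le, reassoc_of% h₁]
    have k₂ : (β ≫ (G.s ⁻¹ᵁ W).ι) ≫ G.s = (γ ≫ (G.s ⁻¹ᵁ W).ι) ≫ G.t := by
      simp only [Category.assoc, ← Scheme.Hom.resLE_comp_ι _ le_rfl,
        ← Scheme.Hom.resLE_comp_ι _ hW.le, reassoc_of% h₂]
    refine (lift_c_congr G (lift_cW_ι G W hW α β h₁) rfl _
      ((G.comp_s _ _ k₁).trans k₂)).trans ((G.assoc _ _ _ k₁ k₂).trans ?_)
    exact lift_c_congr G rfl (lift_cW_ι G W hW β γ h₂).symm _ _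
  e_s := by
    rw [← cancel_mono W.ι, Category.assoc, Scheme.Hom.resLE_comp_ι,
      Scheme.Hom.resLE_comp_ι_assoc, G.e_s, Category.comp_id, Category.id_comp]
  e_t := by
    rw [← cancel_mono W.ι, Category.assoc, Scheme.Hom.resLE_comp_ι,
      Scheme.Hom.resLE_comp_ι_assoc, G.e_t, Category.comp_id, Category.id_comp]
  comp_e α := by
    rw [← cancel_mono (G.s ⁻¹ᵁ W).ι, lift_cW_ι]
    simp only [Category.assoc, Scheme.Hom.resLE_comp_ι, Scheme.Hom.resLE_comp_ι_assoc]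
    exact (congrArg (· ≫ G.c) (pullback.hom_ext (by simp [pullback.lift_fst])
      (by simp [pullback.lift_snd]))).trans (G.comp_e (α ≫ (G.s ⁻¹ᵁ W).ι))
  e_comp α := by
    rw [← cancel_mono (G.s ⁻¹ᵁ W).ι, lift_cW_ι]
    simp only [Category.assoc, Scheme.Hom.resLE_comp_ι, Scheme.Hom.resLE_comp_ι_assoc]
    exact (congrArg (· ≫ G.c) (pullback.hom_ext (by simp [pullback.lift_fst])
      (by simp [pullback.lift_snd]))).trans (G.e_comp (α ≫ (G.s ⁻¹ᵁ W).ι))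
  i_s := by
    rw [← cancel_mono W.ι, Category.assoc, Scheme.Hom.resLE_comp_ι,
      Scheme.Hom.resLE_comp_ι_assoc, G.i_s, Scheme.Hom.resLE_comp_ι]
  i_t := by
    rw [← cancel_mono W.ι, Category.assoc, Scheme.Hom.resLE_comp_ι,
      Scheme.Hom.resLE_comp_ι_assoc, G.i_t, Scheme.Hom.resLE_comp_ι]
  comp_i α := by
    rw [← cancel_mono (G.s ⁻¹ᵁ W).ι, lift_cW_ι]
    simp only [Category.assoc, Scheme.Hom.resLE_comp_ι, Scheme.Hom.resLE_comp_ι_assoc]
    exact (congrArg (· ≫ G.c) (pullback.hom_ext (by simp [pullback.lift_fst])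
      (by simp [pullback.lift_snd]))).trans ((G.comp_i (α ≫ (G.s ⁻¹ᵁ W).ι)).trans (by simp))
  i_comp α := by
    rw [← cancel_mono (G.s ⁻¹ᵁ W).ι, lift_cW_ι]
    simp only [Category.assoc, Scheme.Hom.resLE_comp_ι, Scheme.Hom.resLE_comp_ι_assoc]
    exact (congrArg (· ≫ G.c) (pullback.hom_ext (by simp [pullback.lift_fst])
      (by simp [pullback.lift_snd]))).trans ((G.i_comp (α ≫ (G.s ⁻¹ᵁ W).ι)).trans (by simp))

theorem finLocFree_sW [IsFinite G.s] [Flat G.s] [LocallyOfFinitePresentation G.s] :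
    IsFinite (sW G W) ∧ Flat (sW G W) ∧ LocallyOfFinitePresentation (sW G W) := by
  rw [show sW G W = G.s ∣_ W from Scheme.Hom.resLE_eq_morphismRestrict _]
  exact ⟨IsZariskiLocalAtTarget.restrict ‹_› W, IsZariskiLocalAtTarget.restrict ‹_› W,
    IsZariskiLocalAtTarget.restrict ‹_› W⟩

theorem finLocFree_tW [IsFinite G.t] [Flat G.t] [LocallyOfFinitePresentation G.t] :
    IsFinite (tW G W hW) ∧ Flat (tW G W hW) ∧ LocallyOfFinitePresentation (tW G W hW) := by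
  haveI : IsFinite (G.t ∣_ W) := IsZariskiLocalAtTarget.restrict ‹_› W
  haveI : Flat (G.t ∣_ W) := IsZariskiLocalAtTarget.restrict ‹_› W
  haveI : LocallyOfFinitePresentation (G.t ∣_ W) := IsZariskiLocalAtTarget.restrict ‹_› W
  rw [show tW G W hW = (G.R.isoOfEq hW).hom ≫ (G.t ∣_ W) by
    rw [← cancel_mono W.ι]; simp]
  exact ⟨inferInstance, inferInstance, inferInstance⟩

theorem mono_j [Mono G.j] : Mono (restrictGrpd G W hW).j := by
  refine ⟨fun {T} a b h ↦ ?_⟩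
  have h1 := congr($h ≫ pullback.fst _ _ ≫ W.ι)
  have h2 := congr($h ≫ pullback.snd _ _ ≫ W.ι)
  simp only [Grpd.GroupoidScheme.j, restrictGrpd, Category.assoc, pullback.lift_fst_assoc,
    pullback.lift_snd_assoc, Scheme.Hom.resLE_comp_ι] at h1 h2
  apply (cancel_mono (G.s ⁻¹ᵁ W).ι).1
  apply (cancel_mono G.j).1
  apply pullback.hom_ext
  · simp only [Grpd.GroupoidScheme.j, Category.assoc, pullback.lift_fst]
    exact h1
  · simp only [Grpd.GroupoidScheme.j, Category.assoc, pullback.lift_snd]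
    exact h2

end Groth.Agent.Lib.GrpdQuot
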