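import Mathlib.AlgebraicGeometry.Morphisms.FinitePresentation
import Mathlib.RingTheory.RingHom.Finite
import Mathlib.Algebra.Category.Ring.Constructions
import Groth.Agent.Lib.GrpdQuot.Affine

/-!
# The quotient by an affine finite locally free equivalence relation
-/

universe u

open CategoryTheory CategoryTheory.Limits AlgebraicGeometry
open scoped TensorProduct

namespace Groth.Agent.Lib.GrpdQuot

variable {S : Scheme.{u}} (G : Grpd.GroupoidScheme S) [IsAffine G.U] [IsAffine G.R]
  [IsFinite G.t] [Mono G.j]

attribute [local instance] algS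

theorem cmp_surjective : Function.Surjective (transAlg G).cmp := by
  let f := CommRingCat.ofHom (transAlg G).cmp.toRingHom
  suffices Function.Surjective f.hom from this
  rw [RingHom.surjective_iff_epi_and_finite]
  constructor
  · refine ⟨fun {L} g h e ↦ ?_⟩
    have e' : ∀ z, g.hom ((transAlg G).cmp z) = h.hom ((transAlg G).cmp z) := fun z ↦
      congr(($e).hom z)
    have et : g.hom.comp (τ G) = h.hom.comp (τ G) := RingHom.ext fun a ↦ by
      have := e' (a ⊗ₜ 1)
      rwa [TransAlg.cmp_tmul, map_one, mul_one] at this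
    have es : g.hom.comp (σ G) = h.hom.comp (σ G) := RingHom.ext fun a ↦ by
      have := e' (1 ⊗ₜ a)
      rwa [TransAlg.cmp_tmul, map_one, one_mul] at this
    refine CommRingCat.hom_ext (pt_injective ((cancel_mono G.j).1 ?_))
    apply pullback.hom_ext
    · simp only [Grpd.GroupoidScheme.j, Category.assoc, pullback.lift_fst, pt_comp, et]
    · simp only [Grpd.GroupoidScheme.j, Category.assoc, pullback.lift_snd, pt_comp, es]
  · have h1 : (τ G).Finite := IsFinite.finite_app (f := G.t) (U := ⊤) (isAffineOpen_top _)
    refine RingHom.Finite.of_comp_finite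
      (f := (Algebra.TensorProduct.includeLeftRingHom (R := (transAlg G).inv))) ?_
    convert h1 using 1
    refine RingHom.ext fun a ↦ ?_
    change (transAlg G).cmp (a ⊗ₜ 1) = _
    rw [TransAlg.cmp_tmul, map_one, mul_one]
    rfl

theorem span_range_τ : Submodule.span Γ(G.U, ⊤) (Set.range (transAlg G).τ) = ⊤ := by
  refine Submodule.eq_top_iff'.2 fun b ↦ ?_
  obtain ⟨z, rfl⟩ := cmp_surjective G b
  induction z with
  | zero => simp
  | add x y hx hy => rw [map_add]; exact Submodule.add_mem _ hx hy
  | tmul a a' =>
    rw [TransAlg.cmp_tmul, mul_comm, ← Algebra.smul_def]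
    exact Submodule.smul_mem _ _ (Submodule.subset_span ⟨a, rfl⟩)

variable [IsFinite G.s] [Flat G.s] [LocallyOfFinitePresentation G.s]

theorem finitePresentation_invariants : Module.FinitePresentation G.invariants Γ(G.U, ⊤) := by
  haveI := finite_algS G
  haveI := projective_algS G
  exact (transAlg G).finitePresentation_inv (span_range_τ G)

theorem flat_invariants : Module.Flat G.invariants Γ(G.U, ⊤) := by
  haveI := finite_algS G
  haveI := projective_algS G
  exact (transAlg G).flat_inv (span_range_τ G)

theorem toQuot_finLocFree :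
    IsFinite G.toQuot ∧ Flat G.toQuot ∧ LocallyOfFinitePresentation G.toQuot := by
  haveI := finitePresentation_invariants G
  haveI := flat_invariants G
  haveI : IsFinite (Spec.map (CommRingCat.ofHom G.invariants.subtype)) :=
    (IsFinite.SpecMap_iff _).2 (RingHom.finite_algebraMap.2 inferInstance)
  haveI : Flat (Spec.map (CommRingCat.ofHom G.invariants.subtype)) :=
    Flat.SpecMap_iff.2 (RingHom.flat_algebraMap_iff.2 inferInstance)
  haveI : LocallyOfFinitePresentation (Spec.map (CommRingCat.ofHom G.invariants.subtype)) := by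
    rw [HasRingHomProperty.Spec_iff (P := @LocallyOfFinitePresentation)]
    exact RingHom.finitePresentation_algebraMap.2
      (Algebra.FinitePresentation.of_finitePresentation _ _)
  rw [toQuot_eq]
  exact ⟨inferInstance, inferInstance, inferInstance⟩

theorem isPullback_toQuot : IsPullback G.t G.s G.toQuot G.toQuot := by
  haveI := finite_algS G
  haveI := projective_algS G
  let A : Type u := Γ(G.U, ⊤)
  let C : Type u := (transAlg G).inv
  let e : A ⊗[C] A ≃+* Γ(G.R, ⊤) :=
    RingEquiv.ofBijective (transAlg G).cmp ((transAlg G).bijective_cmp (span_range_τ G))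
  have h := isPullback_SpecMap_of_isPushout _ _ _ _ (CommRingCat.isPushout_tensorProduct C A A)
  refine IsPullback.of_iso h (Scheme.Spec.mapIso e.toCommRingCatIso.symm.op ≪≫ G.R.isoSpec.symm)
    G.U.isoSpec.symm G.U.isoSpec.symm (Iso.refl _) ?_ ?_ ?_ ?_
  · simp only [Iso.trans_hom, Functor.mapIso_hom, Category.assoc, Scheme.Spec_map, Iso.op_hom,
      Quiver.Hom.unop_op, Iso.symm_hom, ← Scheme.isoSpec_inv_naturality]
    rw [← Spec.map_comp_assoc]
    refine congrArg (Spec.map · ≫ G.U.isoSpec.inv) ?_
    ext a
    change _ = e.symm ((transAlg G).τ a)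
    rw [eq_comm, RingEquiv.symm_apply_eq]
    change _ = (transAlg G).cmp (a ⊗ₜ 1)
    rw [TransAlg.cmp_tmul, map_one, mul_one]
  · simp only [Iso.trans_hom, Functor.mapIso_hom, Category.assoc, Scheme.Spec_map, Iso.op_hom,
      Quiver.Hom.unop_op, Iso.symm_hom, ← Scheme.isoSpec_inv_naturality]
    rw [← Spec.map_comp_assoc]
    refine congrArg (Spec.map · ≫ G.U.isoSpec.inv) ?_
    ext a
    change _ = e.symm (algebraMap A _ a)
    rw [eq_comm, RingEquiv.symm_apply_eq]
    change _ = (transAlg G).cmp (1 ⊗ₜ a)
    rw [TransAlg.cmp_tmul, map_one, one_mul]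
  · simp [toQuot_eq]
    rfl
  · simp [toQuot_eq]
    rfl

end Groth.Agent.Lib.GrpdQuot
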