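import Groth.Agent.Lib.GrpdQuot.Scheme
import Groth.Agent.Lib.Bootstrap.Slice

/-!
# An equivalence relation as a groupoid scheme, and its quotient
-/

set_option autoImplicit false
set_option linter.style.haveILetI false

universe u

open CategoryTheory CategoryTheory.Limits AlgebraicGeometry

namespace Groth.Agent.Lib.GrpdQuot

open Groth.Agent.Lib.AlgSpace
open AlgSp (Sp yon IsEqvRel)

variable {S : Scheme.{u}} {R U : Over S} {s t : R ⟶ U}

theorem hom_ext_of_eqvRel (h : IsEqvRel s t) {T : Scheme.{u}} {a b : T ⟶ R.left}
    (hs : a ≫ s.left = b ≫ s.left) (ht : a ≫ t.left = b ≫ t.left) : a = b := by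
  haveI := Bootstrap.mono_pullbackLift h
  refine (cancel_mono (pullback.lift s.left t.left (by rw [Over.w, Over.w]))).1
    (pullback.hom_ext ?_ ?_) <;> simpa [pullback.lift_fst, pullback.lift_snd]

theorem exists_comp_left (h : IsEqvRel s t) : ∃ c : pullback s.left t.left ⟶ R.left,
    c ≫ t.left = pullback.fst s.left t.left ≫ t.left ∧
    c ≫ s.left = pullback.snd s.left t.left ≫ s.left := by
  let T : Over S := Over.mk (pullback.fst s.left t.left ≫ R.hom)
  have hw : pullback.snd s.left t.left ≫ R.hom = pullback.fst s.left t.left ≫ R.hom := by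
    rw [← Over.w t, ← pullback.condition_assoc, Over.w s, Over.w t]
  obtain ⟨c, hct, hcs⟩ := Bootstrap.exists_comp h
    (Over.homMk (pullback.fst s.left t.left) rfl : T ⟶ R)
    (Over.homMk (pullback.snd s.left t.left) hw : T ⟶ R)
    (Over.OverMorphism.ext pullback.condition)
  exact ⟨c.left, congrArg (·.left) hct, congrArg (·.left) hcs⟩

/-- The groupoid scheme of an equivalence relation. -/
noncomputable def ofEqvRel (h : IsEqvRel s t) : Grpd.GroupoidScheme S where
  U := U.left
  R := R.left
  pU := U.hom
  pR := R.hom
  s := s.left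
  t := t.left
  e := (Bootstrap.exists_unit h).choose.left
  i := (Bootstrap.exists_inverse h).choose.left
  c := (exists_comp_left h).choose
  s_over := Over.w s
  t_over := Over.w t
  comp_s α β w := by
    rw [Category.assoc, (exists_comp_left h).choose_spec.2, pullback.lift_snd_assoc]
  comp_t α β w := by
    rw [Category.assoc, (exists_comp_left h).choose_spec.1, pullback.lift_fst_assoc]
  assoc α β γ h₁ h₂ := by
    refine hom_ext_of_eqvRel h ?_ ?_ <;>
      simp only [Category.assoc, (exists_comp_left h).choose_spec.1,
        (exists_comp_left h).choose_spec.2, pullback.lift_fst_assoc, pullback.lift_snd_assoc,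
        pullback.lift_fst, pullback.lift_snd]
  e_s := congrArg (·.left) (Bootstrap.exists_unit h).choose_spec.2
  e_t := congrArg (·.left) (Bootstrap.exists_unit h).choose_spec.1
  comp_e α := by
    have e1 : (Bootstrap.exists_unit h).choose.left ≫ s.left = 𝟙 _ :=
      congrArg (·.left) (Bootstrap.exists_unit h).choose_spec.2
    refine hom_ext_of_eqvRel h ?_ ?_ <;>
      simp [(exists_comp_left h).choose_spec.1, (exists_comp_left h).choose_spec.2,
        pullback.lift_fst_assoc, pullback.lift_snd_assoc, e1]
  e_comp α := by
    have e1 : (Bootstrap.exists_unit h).choose.left ≫ t.left = 𝟙 _ :=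
      congrArg (·.left) (Bootstrap.exists_unit h).choose_spec.1
    refine hom_ext_of_eqvRel h ?_ ?_ <;>
      simp [(exists_comp_left h).choose_spec.1, (exists_comp_left h).choose_spec.2,
        pullback.lift_fst_assoc, pullback.lift_snd_assoc, e1]
  i_s := congrArg (·.left) (Bootstrap.exists_inverse h).choose_spec.2.1
  i_t := congrArg (·.left) (Bootstrap.exists_inverse h).choose_spec.1
  comp_i α := by
    have e1 : (Bootstrap.exists_inverse h).choose.left ≫ s.left = t.left :=
      congrArg (·.left) (Bootstrap.exists_inverse h).choose_spec.2.1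
    have e2 : (Bootstrap.exists_unit h).choose.left ≫ t.left = 𝟙 _ :=
      congrArg (·.left) (Bootstrap.exists_unit h).choose_spec.1
    have e3 : (Bootstrap.exists_unit h).choose.left ≫ s.left = 𝟙 _ :=
      congrArg (·.left) (Bootstrap.exists_unit h).choose_spec.2
    refine hom_ext_of_eqvRel h ?_ ?_ <;>
      simp [(exists_comp_left h).choose_spec.1, (exists_comp_left h).choose_spec.2,
        pullback.lift_fst_assoc, pullback.lift_snd_assoc, e1, e2, e3]
  i_comp α := by
    have e1 : (Bootstrap.exists_inverse h).choose.left ≫ t.left = s.left :=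
      congrArg (·.left) (Bootstrap.exists_inverse h).choose_spec.1
    have e2 : (Bootstrap.exists_unit h).choose.left ≫ t.left = 𝟙 _ :=
      congrArg (·.left) (Bootstrap.exists_unit h).choose_spec.1
    have e3 : (Bootstrap.exists_unit h).choose.left ≫ s.left = 𝟙 _ :=
      congrArg (·.left) (Bootstrap.exists_unit h).choose_spec.2
    refine hom_ext_of_eqvRel h ?_ ?_ <;>
      simp [(exists_comp_left h).choose_spec.1, (exists_comp_left h).choose_spec.2,
        pullback.lift_fst_assoc, pullback.lift_snd_assoc, e1, e2, e3]

/-- A finite locally free equivalence relation whose orbits lie in affine opens has a scheme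
quotient, with finite locally free quotient map. -/
theorem exists_scheme_quotient_of_eqvRel (h : IsEqvRel s t) [IsFinite s.left] [Flat s.left]
    [LocallyOfFinitePresentation s.left] [IsFinite t.left] [Flat t.left]
    [LocallyOfFinitePresentation t.left]
    (horb : ∀ u : U.left, ∃ W : U.left.Opens, IsAffineOpen W ∧
      ∀ r : R.left, s.left r = u → t.left r ∈ W) :
    ∃ (M : Over S) (q : U ⟶ M), (IsFinite q.left ∧ Flat q.left ∧
      LocallyOfFinitePresentation q.left) ∧ Surjective q.left ∧
      IsPullback t.left s.left q.left q.left := by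
  let G := ofEqvRel h
  haveI : IsFinite G.s := ‹IsFinite s.left›
  haveI : Flat G.s := ‹Flat s.left›
  haveI : LocallyOfFinitePresentation G.s := ‹LocallyOfFinitePresentation s.left›
  haveI : IsFinite G.t := ‹IsFinite t.left›
  haveI : Flat G.t := ‹Flat t.left›
  haveI : LocallyOfFinitePresentation G.t := ‹LocallyOfFinitePresentation t.left›
  obtain ⟨M, q, hq, hqs, sq, -⟩ := exists_scheme_quotient G h
    (exists_invariant_nhd G fun Z _ ⟨u, hu⟩ => ⟨u, hu, horb u⟩)
  exact ⟨M, q, hq, hqs, sq⟩

end Groth.Agent.Lib.GrpdQuot
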