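import Groth.Agent.Lib.AlgSpace.Quot
import Groth.Agent.Lib.UnivThick.OpenCover
import Groth.Agent.Lib.GrpdQuot.Invariant
import Groth.Agent.Lib.GrpdQuot.Restrict
import Groth.Agent.Lib.GrpdQuot.Equiv
import Groth.Agent.Lib.GrpdQuot.Quotient

/-!
# Quotients of finite locally free equivalence relations covered by invariant affine opens
-/

universe u

open CategoryTheory CategoryTheory.Limits AlgebraicGeometry

namespace Groth.Agent.Lib.GrpdQuot

open Groth.Agent.Lib.AlgSpace
open AlgSp (Sp yon RepWith IsEqvRel)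

variable {S : Scheme.{u}} (G : Grpd.GroupoidScheme S)

/-- The source over `S`. -/
noncomputable abbrev sS : Over.mk G.pR ⟶ Over.mk G.pU := Over.homMk G.s G.s_over

/-- The target over `S`. -/
noncomputable abbrev tS : Over.mk G.pR ⟶ Over.mk G.pU := Over.homMk G.t G.t_over

theorem mono_j_of_isEqvRel (h : IsEqvRel (sS G) (tS G)) : Mono G.j := by
  refine ⟨fun {T} a b e ↦ ?_⟩
  have h1 := congr($e ≫ pullback.fst _ _)
  have h2 := congr($e ≫ pullback.snd _ _)
  simp only [Grpd.GroupoidScheme.j, Category.assoc, pullback.lift_fst, pullback.lift_snd] at h1 h2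
  have hp : a ≫ G.pR = b ≫ G.pR := by rw [← G.s_over, reassoc_of% h2]
  exact congrArg Over.Hom.left (h.injective (Over.mk (a ≫ G.pR)) (Over.homMk a rfl)
    (Over.homMk b hp.symm) (Over.OverMorphism.ext h1) (Over.OverMorphism.ext h2))

variable [IsFinite G.s] [Flat G.s] [LocallyOfFinitePresentation G.s] [IsFinite G.t] [Flat G.t]
  [LocallyOfFinitePresentation G.t]

/-- If every closed set contains a point with orbit in an affine open, all points do. -/
theorem exists_invariant_nhd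
    (h3 : ∀ Z : Set ↥G.U, IsClosed Z → Z.Nonempty →
      ∃ u ∈ Z, ∃ W : G.U.Opens, IsAffineOpen W ∧ ∀ r : ↥G.R, G.s r = u → G.t r ∈ W)
    (u : G.U) : ∃ W : G.U.Opens, IsAffineOpen W ∧ u ∈ W ∧ G.s ⁻¹ᵁ W = G.t ⁻¹ᵁ W := by
  let E : Set G.U :=
    {x | ∃ W : G.U.Opens, IsAffineOpen W ∧ x ∈ W ∧ G.s ⁻¹ᵁ W = G.t ⁻¹ᵁ W}
  have hE : IsOpen E := by
    refine isOpen_iff_forall_mem_open.2 fun x ⟨W, hW, hx, hinv⟩ ↦
      ⟨W, fun y hy ↦ ⟨W, hW, hy, hinv⟩, W.2, hx⟩
  by_contra hu
  obtain ⟨x, hx, W, hW, hxW⟩ := h3 Eᶜ hE.isClosed_compl ⟨u, hu⟩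
  obtain ⟨W', h1, -, h2, h3'⟩ := exists_invariant_affineOpen G x W hW hxW
  exact hx ⟨W', h1, h2, h3'⟩

/-- The quotient of an invariant affine open. -/
theorem exists_chart (h : IsEqvRel (sS G) (tS G)) (W : G.U.Opens) (hW : IsAffineOpen W)
    (hinv : G.s ⁻¹ᵁ W = G.t ⁻¹ᵁ W) :
    ∃ (O : Over S) (q : Over.mk (W.ι ≫ G.pU) ⟶ O)
      (f : (yon S).obj O ⟶ QuotSh.quot Scheme.fppfPrecoverage (sS G) (tS G)),
      IsFinite q.left ∧ Flat q.left ∧ LocallyOfFinitePresentation q.left ∧ Surjective q.left ∧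
      RepWith @IsOpenImmersion f ∧
      IsPullback ((yon S).map (Over.homMk W.ι rfl : Over.mk (W.ι ≫ G.pU) ⟶ Over.mk G.pU))
        ((yon S).map q) (quotMap (sS G) (tS G)) f := by
  haveI := mono_j_of_isEqvRel G h
  let H := restrictGrpd G W hinv
  haveI : IsAffine H.U := hW
  haveI : IsAffine H.R := hW.preimage G.s
  haveI : Mono H.j := mono_j G W hinv
  haveI : IsFinite H.s := (finLocFree_sW G W hinv).1
  haveI : Flat H.s := (finLocFree_sW G W hinv).2.1
  haveI : LocallyOfFinitePresentation H.s := (finLocFree_sW G W hinv).2.2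
  haveI : IsFinite H.t := (finLocFree_tW G W hinv).1
  haveI : Flat H.t := (finLocFree_tW G W hinv).2.1
  haveI : LocallyOfFinitePresentation H.t := (finLocFree_tW G W hinv).2.2
  obtain ⟨hf, hfl, hfp⟩ := toQuot_finLocFree H
  haveI : Surjective H.toQuot := ⟨toQuot_surjective H⟩
  obtain ⟨m, hm, -⟩ := exists_desc_scheme H.toQuot (isPullback_toQuot H) H.pU
    (H.t_over.trans H.s_over.symm)
  let O : Over S := Over.mk m
  let q : Over.mk (W.ι ≫ G.pU) ⟶ O := Over.homMk H.toQuot hm
  have hq : fppfCover q.left := fppfCover_mk H.toQuot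
  let R' : Over S := Over.mk ((G.s ⁻¹ᵁ W).ι ≫ G.pR)
  let w : Over.mk (W.ι ≫ G.pU) ⟶ Over.mk G.pU := Over.homMk W.ι rfl
  let r : R' ⟶ Over.mk G.pR := Over.homMk (G.s ⁻¹ᵁ W).ι rfl
  let s' : R' ⟶ Over.mk (W.ι ≫ G.pU) := Over.homMk H.s H.s_over
  let t' : R' ⟶ Over.mk (W.ι ≫ G.pU) := Over.homMk H.t H.t_over
  have hs' : s' ≫ w = r ≫ sS G := Over.OverMorphism.ext (Scheme.Hom.resLE_comp_ι _ _)
  have ht' : t' ≫ w = r ≫ tS G := Over.OverMorphism.ext (Scheme.Hom.resLE_comp_ι _ _)
  haveI : Mono w := (Over.forget S).mono_of_mono_map (inferInstanceAs (Mono W.ι))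
  haveI : Mono r := (Over.forget S).mono_of_mono_map (inferInstanceAs (Mono (G.s ⁻¹ᵁ W).ι))
  -- arrows with source in `W`
  have hlift : ∀ {T : Over S} (c : T ⟶ Over.mk G.pR),
      Set.range (c ≫ sS G).left ⊆ (W : Set G.U) → ∃ l : T ⟶ R', l ≫ r = c := fun {T} c hc ↦ by
    have hc' : Set.range c.left ⊆ Set.range (G.s ⁻¹ᵁ W).ι := by
      rw [Scheme.Opens.range_ι]
      rintro _ ⟨z, rfl⟩
      exact hc ⟨z, Scheme.Hom.comp_apply _ _ z⟩
    have hl := IsOpenImmersion.lift_fac (G.s ⁻¹ᵁ W).ι c.left hc'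
    exact ⟨Over.homMk (IsOpenImmersion.lift (G.s ⁻¹ᵁ W).ι c.left hc')
      (by change _ ≫ _ ≫ G.pR = _; rw [reassoc_of% hl]; exact Over.w c),
      Over.OverMorphism.ext hl⟩
  haveI := isLocallySurjective_quotMap (sS G) (tS G)
  haveI := isLocallySurjective_yon_map q hq
  let π := quotMap (sS G) (tS G)
  have hπ := isPullback_quot h
  have sqH : IsPullback t'.left s'.left q.left q.left := isPullback_toQuot H
  have hqq := isPullback_yon_of_left sqH
  obtain ⟨f, hf'⟩ := exists_desc ((yon S).map q) hqq ((yon S).map w ≫ π) (by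
    rw [← Functor.map_comp_assoc, ← Functor.map_comp_assoc, hs', ht', Functor.map_comp,
      Functor.map_comp, Category.assoc, Category.assoc, quotMap_condition])
  haveI : Flat w.left := inferInstanceAs (Flat W.ι)
  haveI : LocallyOfFinitePresentation w.left := inferInstanceAs (LocallyOfFinitePresentation W.ι)
  haveI : Flat (tS G).left := inferInstanceAs (Flat G.t)
  haveI : LocallyOfFinitePresentation (tS G).left :=
    inferInstanceAs (LocallyOfFinitePresentation G.t)
  have hsq : IsPullback (prod.lift t' s') r (prod.map w w) (prod.lift (tS G) (sS G)) := by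
    refine IsPullback.mk' ?_ (fun T a b _ e ↦ (cancel_mono r).1 e) fun T a b e ↦ ?_
    · rw [prod.lift_map, prod.comp_lift, hs', ht']
    have e1 := congr($e ≫ prod.fst)
    have e2 := congr($e ≫ prod.snd)
    simp only [Category.assoc, prod.map_fst, prod.map_snd, prod.lift_fst, prod.lift_snd] at e1 e2
    obtain ⟨l, hl⟩ := hlift b (by
      rw [← e2]
      rintro _ ⟨z, rfl⟩
      exact ((a ≫ prod.snd).left z).2)
    refine ⟨l, ?_, hl⟩
    refine prod.hom_ext ?_ ?_
    · rw [← cancel_mono w]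
      simp only [Category.assoc, prod.lift_fst_assoc, ht', reassoc_of% hl, e1]
    · rw [← cancel_mono w]
      simp only [Category.assoc, prod.lift_snd_assoc, hs', reassoc_of% hl, e2]
  have hfo : RepWith @IsOpenImmersion f :=
    repWith_isOpenImmersion_of_restrict hπ hqq.w.symm hsq hf'
  refine ⟨O, q, f, hf, hfl, hfp, ‹_›, hfo, ?_⟩
  refine isPullback_of_yon hf'.symm (fun T x x' e _ ↦ ?_) fun T a b e ↦ ?_
  · obtain ⟨x, rfl⟩ := (yon S).map_surjective x
    obtain ⟨x', rfl⟩ := (yon S).map_surjective x'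
    rw [← Functor.map_comp, ← Functor.map_comp] at e
    rw [(cancel_mono w).1 ((yon S).map_injective e)]
  obtain ⟨a, rfl⟩ := (yon S).map_surjective a
  obtain ⟨T', p, x, hp, hx⟩ := exists_lift_of_isLocallySurjective ((yon S).map q) b
  obtain ⟨x, rfl⟩ := (yon S).map_surjective x
  have key : (yon S).map (p ≫ a) ≫ π = (yon S).map (x ≫ w) ≫ π := by
    simp only [Functor.map_comp, Category.assoc, ← hf']
    rw [reassoc_of% hx, e]
  obtain ⟨c, hc⟩ := (yon S).map_surjective (hπ.lift _ _ key)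
  have c1 : c ≫ tS G = p ≫ a := (yon S).map_injective (by rw [Functor.map_comp, hc]; simp)
  have c2 : c ≫ sS G = x ≫ w := (yon S).map_injective (by rw [Functor.map_comp, hc]; simp)
  obtain ⟨l, hl⟩ := hlift c (by rw [c2]; rintro _ ⟨z, rfl⟩; exact (x.left z).2)
  have ha : Set.range a.left ⊆ Set.range W.ι := by
    rw [Scheme.Opens.range_ι]
    rintro _ ⟨z, rfl⟩
    obtain ⟨z', rfl⟩ := hp.1.1.surj z
    rw [← Scheme.Hom.comp_apply, ← Over.comp_left, ← c1, ← hl, Category.assoc, ← ht',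
      Over.comp_left, Over.comp_left, Scheme.Hom.comp_apply, Scheme.Hom.comp_apply]
    exact (t'.left (l.left z')).2
  have hla := IsOpenImmersion.lift_fac W.ι a.left ha
  let la : T ⟶ Over.mk (W.ι ≫ G.pU) := Over.homMk (IsOpenImmersion.lift W.ι a.left ha) (by
    change _ ≫ W.ι ≫ G.pU = _; rw [reassoc_of% hla]; exact Over.w a)
  have hla' : la ≫ w = a := Over.OverMorphism.ext hla
  haveI : Mono f := mono_of_repWith (fun _ _ g (hg : IsOpenImmersion g) ↦
    (inferInstanceAs (Mono g) : MorphismProperty.monomorphisms Scheme.{u} g)) hfo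
  refine ⟨(yon S).map la, by rw [← Functor.map_comp, hla'], ?_⟩
  rw [← cancel_mono f, Category.assoc, hf', ← Functor.map_comp_assoc, hla', e]

/-- The quotient of a finite locally free equivalence relation is a scheme if every point has an
orbit inside an affine open. -/
theorem exists_scheme_quotient (h : IsEqvRel (sS G) (tS G))
    (hnhd : ∀ u : G.U, ∃ W : G.U.Opens, IsAffineOpen W ∧ u ∈ W ∧ G.s ⁻¹ᵁ W = G.t ⁻¹ᵁ W) :
    ∃ (M : Over S) (m : Over.mk G.pU ⟶ M),
      (IsFinite m.left ∧ Flat m.left ∧ LocallyOfFinitePresentation m.left) ∧ Surjective m.left ∧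
      IsPullback G.t G.s m.left m.left ∧
      QuotSh.IsQuotient Scheme.fppfPrecoverage (sS G) (tS G) m := by
  choose W hW hmem hinv using hnhd
  choose O q f hqf hqfl hqfp hqs hfo hsq using fun u ↦ exists_chart G h (W u) (hW u) (hinv u)
  haveI := isLocallySurjective_quotMap (sS G) (tS G)
  have hcov : ∀ (T : Over S) (a : (yon S).obj T ⟶ QuotSh.quot Scheme.fppfPrecoverage (sS G) (tS G))
      (t : ↥T.left), ∃ i, t ∈ Set.range ((hfo i).1.snd a).left := fun T a t ↦ by
    obtain ⟨T', p, x, hp, hx⟩ := exists_lift_of_isLocallySurjective (quotMap (sS G) (tS G)) a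
    obtain ⟨x, rfl⟩ := (yon S).map_surjective x
    obtain ⟨t', rfl⟩ := hp.1.1.surj t
    let i : G.U := x.left t'
    let Q : T'.left.Opens := x.left ⁻¹ᵁ W i
    let TQ : Over S := Over.mk (Q.ι ≫ T'.hom)
    let j : TQ ⟶ T' := Over.homMk Q.ι rfl
    have hr : Set.range (j ≫ x).left ⊆ Set.range (W i).ι := by
      rw [Scheme.Opens.range_ι]
      rintro _ ⟨z, rfl⟩
      exact z.2
    have hl' := IsOpenImmersion.lift_fac (W i).ι (j ≫ x).left hr
    let l : TQ ⟶ Over.mk ((W i).ι ≫ G.pU) :=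
      Over.homMk (IsOpenImmersion.lift (W i).ι (j ≫ x).left hr)
        (by change _ ≫ (W i).ι ≫ G.pU = _; rw [reassoc_of% hl']; exact Over.w (j ≫ x))
    have hl : l ≫ (Over.homMk (W i).ι rfl : Over.mk ((W i).ι ≫ G.pU) ⟶ Over.mk G.pU) = j ≫ x := Over.OverMorphism.ext hl'
    have e : (yon S).map (l ≫ q i) ≫ f i = (yon S).map (j ≫ p) ≫ a := by
      simp only [Functor.map_comp, Category.assoc, ← (hsq i).w]
      rw [← Functor.map_comp_assoc, hl, Functor.map_comp_assoc, hx]
    let y := (hfo i).1.lift ((yon S).map (l ≫ q i)) (j ≫ p) e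
    refine ⟨i, y.left ⟨t', hmem i⟩, ?_⟩
    rw [← Scheme.Hom.comp_apply, ← Over.comp_left, Functor.relativelyRepresentable.lift_snd,
      Over.comp_left, Scheme.Hom.comp_apply]
    rfl
  obtain ⟨M, φ, inj, hφ, hinj, hio, hsurj⟩ :=
    UnivThick.OpenCover.exists_scheme_iso hfo hcov
  obtain ⟨m, hm⟩ := (yon S).map_surjective (quotMap (sS G) (tS G) ≫ inv φ)
  have hmφ : (yon S).map m ≫ φ = quotMap (sS G) (tS G) := by simp [hm]
  have sqU : ∀ i, IsPullback (W i).ι (q i).left m.left (inj i).left := fun i ↦ by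
    refine IsPullback.map (Over.forget S) (IsPullback.of_map (yon S) ?_ ?_ :
      IsPullback (Over.homMk (W i).ι rfl : Over.mk ((W i).ι ≫ G.pU) ⟶ Over.mk G.pU)
        (q i) m (inj i))
    · refine (yon S).map_injective ((cancel_mono φ).1 ?_)
      simp only [Functor.map_comp, Category.assoc, hmφ, hinj, (hsq i).w]
    · exact (hsq i).of_iso (Iso.refl _) (Iso.refl _) (Iso.refl _) (asIso φ).symm (by simp)
        (by simp) (by simp [hm]) (by simp [← hinj])
  haveI : ∀ i, IsOpenImmersion (inj i).left := hio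
  let 𝒰 : M.left.OpenCover :=
    Scheme.Cover.mkOfCovers G.U (fun i ↦ (O i).left) (fun i ↦ (inj i).left) hsurj
  have hP : ∀ (P : MorphismProperty Scheme.{u}) [IsZariskiLocalAtTarget P],
      (∀ i, P (q i).left) → P m.left := fun P _ hP ↦
    IsZariskiLocalAtTarget.of_openCover 𝒰 fun i ↦ by
      change P (pullback.snd m.left (inj i).left)
      rw [← P.cancel_left_of_respectsIso (sqU i).isoPullback.hom]
      rw [(sqU i).isoPullback_hom_snd]
      exact hP i
  have hfin : IsFinite m.left := hP @IsFinite hqf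
  have hflat : Flat m.left := hP @Flat hqfl
  have hlfp : LocallyOfFinitePresentation m.left := hP @LocallyOfFinitePresentation hqfp
  have hsur : Surjective m.left := hP @Surjective hqs
  have sq : IsPullback G.t G.s m.left m.left := by
    refine IsPullback.map (Over.forget S) (IsPullback.of_map (yon S) ?_ ?_ :
      IsPullback (tS G) (sS G) m m)
    · refine (yon S).map_injective ((cancel_mono φ).1 ?_)
      simp only [Functor.map_comp, Category.assoc, hmφ]
      exact (quotMap_condition _ _).symm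
    · exact (isPullback_quot h).of_iso (Iso.refl _) (Iso.refl _) (Iso.refl _) (asIso φ).symm
        (by simp) (by simp) (by simp [hm]) (by simp [hm])
  exact ⟨M, m, ⟨hfin, hflat, hlfp⟩, hsur, sq,
    isQuotient_of_fppfCover _ _ m (fppfCover_mk m.left) sq⟩

end Groth.Agent.Lib.GrpdQuot
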