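import Mathlib.CategoryTheory.Monoidal.Cartesian.Over
import Mathlib.CategoryTheory.Monoidal.Cartesian.Grp
import Groth.Prelude.Def_AlgGrp
import Groth.Prelude.Def_Grpd
import Groth.Prelude.Def_AlgSp

/-!
# The groupoid of a group action
-/

universe u

open CategoryTheory CategoryTheory.Limits MonoidalCategory CartesianMonoidalCategory MonObj
  AlgebraicGeometry
open scoped MonObj

namespace Groth.Agent.Lib.GrpdQuot

variable {S : Scheme.{u}} {G X : Over S} [GrpObj G] (a : AlgGrp.Action G X)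

theorem one_act' {T : Over S} (y : T ⟶ X) : lift (1 : T ⟶ G) y ≫ a.act = y := by
  have h : lift (1 : T ⟶ G) y = lift (toUnit T) y ≫ (η[G] ▷ X) := by
    rw [lift_whiskerRight, Hom.one_def]
  rw [h, Category.assoc, a.one_act, leftUnitor_hom, lift_snd]

theorem e_act : (lift (1 : X ⟶ G) (𝟙 X)).left ≫ a.act.left = 𝟙 X.left :=
  congrArg Over.Hom.left (one_act' a (𝟙 X))

omit a in
theorem e_snd : (lift (1 : X ⟶ G) (𝟙 X)).left ≫ (snd G X).left = 𝟙 X.left :=
  congrArg Over.Hom.left (lift_snd (1 : X ⟶ G) (𝟙 X))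

theorem mul_act' {T : Over S} (g h : T ⟶ G) (y : T ⟶ X) :
    lift (g * h) y ≫ a.act = lift g (lift h y ≫ a.act) ≫ a.act := by
  have e : lift (g * h) y = lift (lift g h) y ≫ (μ[G] ▷ X) := by
    rw [lift_whiskerRight, Hom.mul_def]
  rw [e, Category.assoc, a.mul_act, lift_lift_associator_hom_assoc, lift_whiskerLeft_assoc]

theorem inv_act : lift (fst G X)⁻¹ a.act ≫ a.act = snd G X := by
  have h := mul_act' a (fst G X)⁻¹ (fst G X) (snd G X)
  rw [inv_mul_cancel, one_act', lift_fst_snd, Category.id_comp] at h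
  exact h.symm

/-- The objects of pairs of composable arrows. -/
noncomputable abbrev pairObj : Over S :=
  Over.mk (pullback.fst (snd G X).left a.act.left ≫ (G ⊗ X).hom)

/-- First arrow of a pair. -/
noncomputable abbrev pairFst : pairObj a ⟶ G ⊗ X := Over.homMk (pullback.fst _ _) rfl

/-- Second arrow of a pair. -/
noncomputable abbrev pairSnd : pairObj a ⟶ G ⊗ X := Over.homMk (pullback.snd _ _) (by
  exact (congrArg (pullback.snd _ _ ≫ ·) (Over.w a.act)).symm.trans
    ((pullback.condition_assoc _).symm.trans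
      (congrArg (pullback.fst _ _ ≫ ·) (Over.w (snd G X)))))

/-- Composition of arrows. -/
noncomputable def actComp : pairObj a ⟶ G ⊗ X :=
  lift ((pairFst a ≫ fst G X) * (pairSnd a ≫ fst G X)) (pairSnd a ≫ snd G X)

theorem lift_actComp {T : Scheme.{u}} (α β : T ⟶ (G ⊗ X).left)
    (h : α ≫ (snd G X).left = β ≫ a.act.left) :
    ∃ α' β' : Over.mk (α ≫ (G ⊗ X).hom) ⟶ G ⊗ X, α'.left = α ∧ β'.left = β ∧
      α' ≫ snd G X = β' ≫ a.act ∧
      pullback.lift α β h ≫ (actComp a).left =
        (lift ((α' ≫ fst G X) * (β' ≫ fst G X)) (β' ≫ snd G X)).left := by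
  let l : Over.mk (α ≫ (G ⊗ X).hom) ⟶ pairObj a :=
    Over.homMk (pullback.lift α β h) (pullback.lift_fst_assoc ..)
  have h1 : (l ≫ pairFst a).left = α := pullback.lift_fst ..
  have h2 : (l ≫ pairSnd a).left = β := pullback.lift_snd ..
  refine ⟨l ≫ pairFst a, l ≫ pairSnd a, h1, h2, Over.OverMorphism.ext ?_, ?_⟩
  · rw [Over.comp_left, Over.comp_left, Category.assoc, Category.assoc, Over.comp_left,
      Over.comp_left]
    exact congrArg (l.left ≫ ·) pullback.condition
  · change (l ≫ actComp a).left = _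
    rw [actComp, comp_lift, comp_mul]
    simp only [Category.assoc]

theorem actComp_snd {T : Scheme.{u}} (α β : T ⟶ (G ⊗ X).left)
    (h : α ≫ (snd G X).left = β ≫ a.act.left) :
    (pullback.lift α β h ≫ (actComp a).left) ≫ (snd G X).left = β ≫ (snd G X).left := by
  obtain ⟨α', β', h1, h2, -, e⟩ := lift_actComp a α β h
  rw [e, ← Over.comp_left, lift_snd, Over.comp_left, h2]

theorem actComp_act {T : Scheme.{u}} (α β : T ⟶ (G ⊗ X).left)
    (h : α ≫ (snd G X).left = β ≫ a.act.left) :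
    (pullback.lift α β h ≫ (actComp a).left) ≫ a.act.left = α ≫ a.act.left := by
  obtain ⟨α', β', h1, h2, e', e⟩ := lift_actComp a α β h
  rw [e, ← Over.comp_left, mul_act', ← comp_lift_assoc β' (fst G X) (snd G X),
    lift_fst_snd, Category.id_comp, ← e', ← comp_lift_assoc α' (fst G X) (snd G X), lift_fst_snd,
    Category.id_comp, Over.comp_left, h1]

/-- The groupoid of an action. -/
noncomputable def actGrpd : Grpd.GroupoidScheme S where
  U := X.left
  R := (G ⊗ X).left
  pU := X.hom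
  pR := (G ⊗ X).hom
  s := (snd G X).left
  t := a.act.left
  e := (lift (1 : X ⟶ G) (𝟙 X)).left
  i := (lift (fst G X)⁻¹ a.act).left
  c := (actComp a).left
  s_over := Over.w _
  t_over := Over.w _
  comp_s α β h := actComp_snd a α β h
  comp_t α β h := actComp_act a α β h
  assoc {T} α β γ h₁ h₂ := by
    obtain ⟨αβ, γ', e1, e2, -, k1⟩ := lift_actComp a
      (pullback.lift α β h₁ ≫ (actComp a).left) γ ((actComp_snd a α β h₁).trans h₂)
    obtain ⟨α', βγ, e3, e4, -, k2⟩ := lift_actComp a α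
      (pullback.lift β γ h₂ ≫ (actComp a).left) (h₁.trans (actComp_act a β γ h₂).symm)
    obtain ⟨α'', β'', e5, e6, -, k3⟩ := lift_actComp a α β h₁
    obtain ⟨β''', γ''', e7, e8, -, k4⟩ := lift_actComp a β γ h₂
    rw [k1, k2]
    have hb : T = T := rfl
    have hβ : (pullback.lift α β h₁ ≫ (actComp a).left) ≫ (G ⊗ X).hom = α ≫ (G ⊗ X).hom := by
      rw [k3]; exact Over.w _
    have hγ : β ≫ (G ⊗ X).hom = α ≫ (G ⊗ X).hom := e6 ▸ Over.w β''
    -- move everything to `Over.mk (α ≫ _)`
    let A : Over.mk (α ≫ (G ⊗ X).hom) ⟶ Over.mk ((pullback.lift α β h₁ ≫ (actComp a).left) ≫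
      (G ⊗ X).hom) := Over.homMk (𝟙 T) ((Category.id_comp _).trans hβ)
    let B : Over.mk (α ≫ (G ⊗ X).hom) ⟶ Over.mk (β ≫ (G ⊗ X).hom) :=
      Over.homMk (𝟙 T) ((Category.id_comp _).trans hγ)
    have eA : A ≫ αβ = lift ((α'' ≫ fst G X) * (β'' ≫ fst G X)) (β'' ≫ snd G X) :=
      Over.OverMorphism.ext ((Category.id_comp _).trans (e1.trans k3))
    have eB : B ≫ γ''' = A ≫ γ' :=
      Over.OverMorphism.ext (congrArg (𝟙 T ≫ ·) (e8.trans e2.symm))
    have eC : βγ = lift ((B ≫ β''' ≫ fst G X) * (B ≫ γ''' ≫ fst G X)) (B ≫ γ''' ≫ snd G X) := by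
      rw [← comp_mul, ← comp_lift]
      exact Over.OverMorphism.ext ((e4.trans k4).trans (Category.id_comp _).symm)
    have eD : B ≫ β''' = β'' :=
      Over.OverMorphism.ext ((Category.id_comp _).trans (e7.trans e6.symm))
    have eE : α' = α'' := Over.OverMorphism.ext (e3.trans e5.symm)
    refine (Category.id_comp _).symm.trans (congrArg Over.Hom.left (?_ : A ≫ _ = _))
    rw [comp_lift, comp_mul]
    simp only [← Category.assoc, eA, eB.symm, lift_fst]
    rw [eC]
    simp only [lift_fst, lift_snd, Category.assoc, reassoc_of% eD, eE]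
    rw [_root_.mul_assoc]
  e_s := by rw [← Over.comp_left, lift_snd]; rfl
  e_t := by rw [← Over.comp_left, one_act']; rfl
  comp_e α := by
    obtain ⟨α', β', h1, h2, -, e⟩ := lift_actComp a α
      (α ≫ (snd G X).left ≫ (lift (1 : X ⟶ G) (𝟙 X)).left)
      (by simp only [Category.assoc, e_act a, Category.comp_id])
    refine e.trans ((congrArg Over.Hom.left ?_).trans h1)
    obtain rfl : β' = α' ≫ snd G X ≫ lift (1 : X ⟶ G) (𝟙 X) :=
      Over.OverMorphism.ext (h2.trans (by rw [Over.comp_left, Over.comp_left, h1]))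
    ext1 <;> simp [comp_one, _root_.one_mul, _root_.mul_one] <;>
      first | exact _root_.one_mul _ | exact _root_.mul_one _
  e_comp α := by
    obtain ⟨α', β', h1, h2, -, e⟩ := lift_actComp a
      (α ≫ a.act.left ≫ (lift (1 : X ⟶ G) (𝟙 X)).left) α
      (by simp only [Category.assoc, e_snd, Category.comp_id])
    refine e.trans ((congrArg Over.Hom.left ?_).trans h2)
    obtain rfl : α' = β' ≫ a.act ≫ lift (1 : X ⟶ G) (𝟙 X) :=
      Over.OverMorphism.ext (h1.trans (by rw [Over.comp_left, Over.comp_left, h2]))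
    ext1 <;> simp [comp_one, _root_.one_mul, _root_.mul_one] <;>
      first | exact _root_.one_mul _ | exact _root_.mul_one _
  i_s := by rw [← Over.comp_left, lift_snd]
  i_t := by
    rw [← Over.comp_left]
    exact congrArg Over.Hom.left (inv_act a)
  comp_i α := by
    obtain ⟨α', β', h1, h2, -, e⟩ := lift_actComp a α (α ≫ (lift (fst G X)⁻¹ a.act).left) (by
      rw [Category.assoc, ← Over.comp_left]
      rw [inv_act a])
    refine e.trans ((congrArg Over.Hom.left ?_ :
      _ = (α' ≫ a.act ≫ lift (1 : X ⟶ G) (𝟙 X)).left).trans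
        (by rw [Over.comp_left, Over.comp_left, h1]))
    obtain rfl : β' = α' ≫ lift (fst G X)⁻¹ a.act :=
      Over.OverMorphism.ext (h2.trans (by rw [Over.comp_left, h1]))
    ext1 <;> simp [comp_one, GrpObj.comp_inv, _root_.inv_mul_cancel, _root_.mul_inv_cancel, inv_act a,
      reassoc_of% inv_act a] <;> first | exact _root_.inv_mul_cancel _ | exact _root_.mul_inv_cancel _
  i_comp α := by
    obtain ⟨α', β', h1, h2, -, e⟩ := lift_actComp a (α ≫ (lift (fst G X)⁻¹ a.act).left) α (by
      rw [Category.assoc, ← Over.comp_left, lift_snd])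
    refine e.trans ((congrArg Over.Hom.left ?_ :
      _ = (β' ≫ snd G X ≫ lift (1 : X ⟶ G) (𝟙 X)).left).trans
        (by rw [Over.comp_left, Over.comp_left, h2]))
    obtain rfl : α' = β' ≫ lift (fst G X)⁻¹ a.act :=
      Over.OverMorphism.ext (h1.trans (by rw [Over.comp_left, h2]))
    ext1 <;> simp [comp_one, GrpObj.comp_inv, _root_.inv_mul_cancel, _root_.mul_inv_cancel, inv_act a,
      reassoc_of% inv_act a] <;> first | exact _root_.inv_mul_cancel _ | exact _root_.mul_inv_cancel _

/-- A free action gives an equivalence relation. -/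
theorem injective_of_free
    (hfree : ∀ (T : Over S) (g : T ⟶ G) (x : T ⟶ X),
      lift g x ≫ a.act = x → g = toUnit T ≫ η[G])
    {T : Over S} (r r' : T ⟶ G ⊗ X) (ht : r ≫ a.act = r' ≫ a.act)
    (hs : r ≫ snd G X = r' ≫ snd G X) : r = r' := by
  have e : ∀ r : T ⟶ G ⊗ X, lift (r ≫ fst G X) (r ≫ snd G X) = r := fun r ↦ by
    rw [← comp_lift, lift_fst_snd, Category.comp_id]
  have h2 : lift ((r' ≫ fst G X)⁻¹ * (r ≫ fst G X)) (r ≫ snd G X) ≫ a.act = r ≫ snd G X := by
    rw [mul_act', e r, ht]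
    have := mul_act' a (r' ≫ fst G X)⁻¹ (r' ≫ fst G X) (r' ≫ snd G X)
    rw [inv_mul_cancel, one_act', e r'] at this
    exact this.symm.trans hs.symm
  have h3 : (r' ≫ fst G X)⁻¹ * (r ≫ fst G X) = 1 := (hfree T _ _ h2).trans Hom.one_def.symm
  rw [← e r, ← e r', hs, ← inv_mul_eq_one.1 h3]

end Groth.Agent.Lib.GrpdQuot
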