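import Mathlib.AlgebraicGeometry.Sites.Fpqc
import Mathlib.AlgebraicGeometry.Morphisms.UniversallyInjective
import Groth.Agent.Lib.GrpdQuot.Action
import Groth.Agent.Lib.GrpdQuot.Scheme

/-!
# The hypotheses of the quotient theorem for a free action of a finite locally free group
-/

universe u

open CategoryTheory CategoryTheory.Limits MonoidalCategory CartesianMonoidalCategory MonObj
  AlgebraicGeometry

namespace Groth.Agent.Lib.GrpdQuot

variable {S : Scheme.{u}} {G X : Over S} [GrpObj G] (a : AlgGrp.Action G X)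

theorem inv_act_self : lift (fst G X)⁻¹ a.act ≫ lift (fst G X)⁻¹ a.act = 𝟙 (G ⊗ X) := by
  rw [comp_lift, GrpObj.comp_inv, lift_fst, inv_act a, _root_.inv_inv, lift_fst_snd]

theorem isIso_actGrpd_i : IsIso (actGrpd a).i :=
  ⟨⟨(actGrpd a).i, congrArg Over.Hom.left (inv_act_self a),
    congrArg Over.Hom.left (inv_act_self a)⟩⟩

theorem finLocFree_actGrpd (hG : IsFinite G.hom ∧ Flat G.hom ∧ LocallyOfFinitePresentation G.hom) :
    (IsFinite (actGrpd a).s ∧ Flat (actGrpd a).s ∧ LocallyOfFinitePresentation (actGrpd a).s) ∧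
      IsFinite (actGrpd a).t ∧ Flat (actGrpd a).t ∧ LocallyOfFinitePresentation (actGrpd a).t := by
  have h : ∀ (P : MorphismProperty Scheme.{u}) [P.IsStableUnderBaseChange],
      P G.hom → P (actGrpd a).s := fun P _ hP ↦ MorphismProperty.pullback_snd (P := P) _ _ hP
  have h1 : IsFinite (actGrpd a).s := h @IsFinite hG.1
  have h2 : Flat (actGrpd a).s := h @Flat hG.2.1
  have h3 : LocallyOfFinitePresentation (actGrpd a).s := h @LocallyOfFinitePresentation hG.2.2
  haveI := isIso_actGrpd_i a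
  refine ⟨⟨h1, h2, h3⟩, ?_⟩
  rw [← (actGrpd a).i_s]
  exact ⟨inferInstance, inferInstance, inferInstance⟩

theorem isEqvRel_actGrpd
    (hfree : ∀ (T : Over S) (g : T ⟶ G) (x : T ⟶ X),
      lift g x ≫ a.act = x → g = toUnit T ≫ η[G]) :
    AlgSp.IsEqvRel (R := G ⊗ X) (U := X) (snd G X) a.act where
  injective _ r r' ht hs := injective_of_free a hfree r r' ht hs
  equivalence T := by
    refine ⟨fun x ↦ ⟨lift 1 x, one_act' a x, lift_snd _ _⟩, ?_, ?_⟩
    · rintro _ _ ⟨r, rfl, rfl⟩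
      exact ⟨r ≫ lift (fst G X)⁻¹ a.act, by rw [Category.assoc, inv_act a],
        by rw [Category.assoc, lift_snd]⟩
    · rintro _ _ _ ⟨r, rfl, rfl⟩ ⟨r', h, rfl⟩
      have e : ∀ r : T ⟶ G ⊗ X, lift (r ≫ fst G X) (r ≫ snd G X) = r := fun r ↦ by
        rw [← comp_lift, lift_fst_snd, Category.comp_id]
      exact ⟨lift ((r ≫ fst G X) * (r' ≫ fst G X)) (r' ≫ snd G X),
        by rw [mul_act', e r', h, e r], lift_snd _ _⟩

theorem nhd_of_isAffineHom [IsAffineHom X.hom] (u : X.left) :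
    ∃ W : (actGrpd a).U.Opens, IsAffineOpen W ∧
      ∀ r : (actGrpd a).R, (actGrpd a).s r = u → (actGrpd a).t r ∈ W := by
  obtain ⟨V, hV, hx, -⟩ :=
    exists_isAffineOpen_mem_and_subset (X := S) (x := X.hom u) (U := ⊤) trivial
  refine ⟨X.hom ⁻¹ᵁ V, hV.preimage X.hom, fun r hr ↦ ?_⟩
  change X.hom ((actGrpd a).t r) ∈ V
  have : X.hom ((actGrpd a).t r) = X.hom ((actGrpd a).s r) :=
    (Scheme.Hom.comp_apply (actGrpd a).t (actGrpd a).pU r).symm.trans
      ((congrArg (fun f : (actGrpd a).R ⟶ S ↦ f r)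
        ((actGrpd a).t_over.trans (actGrpd a).s_over.symm)).trans
        (Scheme.Hom.comp_apply (actGrpd a).s (actGrpd a).pU r))
  rw [this, hr]
  exact hx

theorem nhd_of_isOpenImmersion (hG : IsFinite G.hom) {R : CommRingCat.{u}} (i : X.left ⟶ Spec R)
    [IsOpenImmersion i] (u : X.left) :
    ∃ W : (actGrpd a).U.Opens, IsAffineOpen W ∧
      ∀ r : (actGrpd a).R, (actGrpd a).s r = u → (actGrpd a).t r ∈ W := by
  haveI : IsFinite (actGrpd a).s := MorphismProperty.pullback_snd (P := @IsFinite) _ _ hG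
  let O : Set ↥(Spec R) := i '' ((actGrpd a).t '' ((actGrpd a).s ⁻¹' {u}))
  have hO : O.Finite := (((actGrpd a).s.finite_preimage_singleton u).image _).image _
  obtain ⟨f, hf, hOf⟩ := exists_basicOpen_le_of_finite (isAffineOpen_top (Spec R)) O hO
    (W := i.opensRange) (by rintro _ ⟨x, -, rfl⟩; exact ⟨x, rfl⟩) (fun _ _ ↦ trivial)
  exact ⟨i ⁻¹ᵁ (Spec R).basicOpen f,
    ((isAffineOpen_top (Spec R)).basicOpen f).preimage_of_isOpenImmersion i hf,
    fun r hr ↦ hOf ⟨_, ⟨r, hr, rfl⟩, rfl⟩⟩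

theorem nhd_of_universallyInjective [UniversallyInjective G.hom] (u : X.left) :
    ∃ W : (actGrpd a).U.Opens, IsAffineOpen W ∧
      ∀ r : (actGrpd a).R, (actGrpd a).s r = u → (actGrpd a).t r ∈ W := by
  haveI : UniversallyInjective (actGrpd a).s :=
    MorphismProperty.pullback_snd (P := @UniversallyInjective) _ _ ‹_›
  obtain ⟨W, hW, hu, -⟩ :=
    exists_isAffineOpen_mem_and_subset (X := (actGrpd a).U) (x := u) (U := ⊤) trivial
  refine ⟨W, hW, fun r hr ↦ ?_⟩
  rw [(actGrpd a).s.injective (hr.trans (s_e_apply (actGrpd a) u).symm), t_e_apply]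
  exact hu

/-- A flat, lfp surjection has sections fppf locally on its target. -/
theorem isLocallyTrivialFor_of_fppfCover {X M : Scheme.{u}} (q : X ⟶ M) [Flat q] [Surjective q]
    [LocallyOfFinitePresentation q] :
    ∃ R ∈ Scheme.fppfPrecoverage M, ∀ ⦃S' : Scheme.{u}⦄ (f : S' ⟶ M), R f →
      ∃ s : S' ⟶ X, s ≫ q = f :=
  ⟨_, q.singleton_mem_fppfPrecoverage, fun S' f hf ↦ by
    cases hf with
    | mk => exact ⟨𝟙 _, Category.id_comp _⟩⟩

end Groth.Agent.Lib.GrpdQuot
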