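import Mathlib.RingTheory.TensorProduct.Free
import Mathlib.LinearAlgebra.TensorProduct.Basis
import Groth.Agent.Lib.GrpdQuot.Trans

/-!
# Descent of a basis to the invariants
-/

universe u

open scoped TensorProduct

namespace Groth.Agent.Lib.GrpdQuot.TransAlg

variable {A B : Type u} [CommRing A] [CommRing B] [Algebra A B] (G : TransAlg A B)
  {I : Type u} (x : I → A) (b : Module.Basis I A B) (hb : ∀ i, b i = G.τ (x i))

include hb

theorem repr_mem_inv (a : A) (i : I) : b.repr (G.τ a) i ∈ G.inv := by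
  let σ' := (RingHom.id B).comp (algebraMap A B)
  let τ' := (RingHom.id B).comp G.τ
  let c := b.repr (G.τ a)
  have hexp : ∀ g : A →+* B, (1 : Along g) ⊗ₜ[A] G.τ a =
      c.sum fun i r ↦ g r • ((1 : Along g) ⊗ₜ[A] G.τ (x i)) := fun g ↦ by
    conv_lhs => rw [← b.linearCombination_repr (G.τ a)]
    rw [Finsupp.linearCombination_apply, Finsupp.sum, TensorProduct.tmul_sum]
    refine Finset.sum_congr rfl fun j _ ↦ ?_
    rw [TensorProduct.tmul_smul, ← algebraMap_smul (Along g), hb]
    rfl
  have h1 := congrArg (G.θ (RingHom.id B)) (hexp σ')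
  simp only [map_finsuppSum, map_smul, G.θ_τ] at h1
  have h3 : (Finsupp.linearCombination B fun i ↦ (1 : Along τ') ⊗ₜ[A] G.τ (x i))
      (c.mapRange σ' (map_zero _)) =
      (Finsupp.linearCombination B fun i ↦ (1 : Along τ') ⊗ₜ[A] G.τ (x i))
        (c.mapRange τ' (map_zero _)) := by
    rw [Finsupp.linearCombination_apply, Finsupp.linearCombination_apply]
    have hM : ∀ g : A →+* B, (c.mapRange g (map_zero g)).sum
        (fun i k ↦ k • ((1 : Along τ') ⊗ₜ[A] G.τ (x i))) =
        c.sum fun i r ↦ g r • ((1 : Along τ') ⊗ₜ[A] G.τ (x i)) := fun g ↦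
      Finsupp.sum_mapRange_index fun j ↦ zero_smul B ((1 : Along τ') ⊗ₜ[A] G.τ (x j))
    exact (hM σ').trans ((h1.symm.trans (hexp τ')).trans (hM τ').symm)
  have hli : LinearIndependent (Along τ') fun i ↦ (1 : Along τ') ⊗ₜ[A] G.τ (x i) := by
    have := (Algebra.TensorProduct.basis (Along τ') b).linearIndependent
    have e : (fun i ↦ (1 : Along τ') ⊗ₜ[A] G.τ (x i)) =
        ⇑(Algebra.TensorProduct.basis (Along τ') b) :=
      funext fun i ↦ by rw [Algebra.TensorProduct.basis_apply, hb]
    rwa [e]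
  exact congr($(hli h3) i)

/-- The descended basis. -/
theorem exists_basis_inv : ∃ b' : Module.Basis I G.inv A, ∀ i, b' i = x i := by
  have hli : LinearIndependent G.inv x := by
    rw [linearIndependent_iff]
    intro l hl
    rw [Finsupp.linearCombination_apply] at hl
    have h1 := congrArg G.τ hl
    rw [map_zero, map_finsuppSum] at h1
    have h2 : Finsupp.linearCombination A b (l.mapRange Subtype.val rfl) = 0 := by
      rw [Finsupp.linearCombination_apply]
      refine (Finsupp.sum_mapRange_index fun j ↦ zero_smul A (b j)).trans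
        ((Finset.sum_congr rfl fun j _ ↦ ?_).trans h1)
      change (l j : A) • b j = G.τ ((l j : A) * x j)
      rw [hb, Algebra.smul_def, map_mul, show algebraMap A B (l j : A) = G.τ (l j) from (l j).2]
    have h3 := b.linearIndependent (h2.trans (map_zero _).symm)
    ext j
    exact congr($h3 j)
  refine ⟨Module.Basis.mk hli fun a _ ↦ ?_, fun i ↦ Module.Basis.mk_apply hli _ i⟩
  have ha : a = (b.repr (G.τ a)).sum fun i r ↦ r * x i := by
    conv_lhs => rw [← G.e_τ a, ← b.linearCombination_repr (G.τ a)]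
    rw [Finsupp.linearCombination_apply, map_finsuppSum]
    refine Finset.sum_congr rfl fun j _ ↦ ?_
    dsimp only
    rw [map_smul, hb, G.e_τ, smul_eq_mul]
  rw [ha]
  exact Submodule.sum_mem _ fun j _ ↦
    Submodule.smul_mem _ (⟨_, G.repr_mem_inv x b hb a j⟩ : G.inv) (Submodule.subset_span ⟨j, rfl⟩)

theorem bijective_of_tmul [Algebra G.inv B] [IsScalarTower G.inv A B]
    (φ : A ⊗[G.inv] A →ₗ[G.inv] B)
    (hφ : ∀ a a', φ (a ⊗ₜ a') = G.τ a * algebraMap A B a') : Function.Bijective φ := by
  classical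
  obtain ⟨b', hb'⟩ := G.exists_basis_inv x b hb
  let E : A ⊗[G.inv] A →ₗ[G.inv] B :=
    (b.repr.symm.toLinearMap.restrictScalars G.inv) ∘ₗ
      (TensorProduct.equivFinsuppOfBasisLeft b').toLinearMap
  have hE : φ = E := by
    refine TensorProduct.ext (b'.ext fun i ↦ LinearMap.ext fun a' ↦ ?_)
    change φ (b' i ⊗ₜ a') = b.repr.symm (TensorProduct.equivFinsuppOfBasisLeft b' (b' i ⊗ₜ a'))
    rw [TensorProduct.equivFinsuppOfBasisLeft_apply_tmul, b'.repr_self, Finsupp.mapRange_single,
      one_smul, b.repr_symm_single, hb, hφ, hb', Algebra.smul_def, mul_comm]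
  rw [hE]
  exact b.repr.symm.bijective.comp (TensorProduct.equivFinsuppOfBasisLeft b').bijective

end Groth.Agent.Lib.GrpdQuot.TransAlg
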