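import Groth.Prelude.Def_Grpd
import Groth.Prelude.Def_MoreMor
import Groth.Agent.Lib.Bootstrap.Quot
import Groth.Agent.Lib.Bootstrap.SpQuot
import Groth.Agent.Lib.AffThick.Scheme
import Groth.Agent.Lib.AlgSpMor.Sep
import Groth.Agent.Lib.GrpdQuot.Quotient
import Mathlib.AlgebraicGeometry.Sites.Fpqc

/-!
Quotients of flat equivalence relations along a saturated thickening.
-/

set_option autoImplicit false
set_option linter.style.haveILetI false

universe u

open CategoryTheory CategoryTheory.Limits AlgebraicGeometry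

namespace Groth.Agent.Lib.GrpdQuot

open Groth.Agent.Lib.AlgSpace
open AlgSp (Sp yon Representable RepWith IsAlgSpace IsEqvRel)

variable {S : Scheme.{u}} (G : Grpd.GroupoidScheme S)

/-- The objects, over the base. -/
abbrev objOver : Over S := Over.mk G.pU

/-- The arrows, over the base. -/
abbrev arrOver : Over S := Over.mk G.pR

/-- The source, over the base. -/
abbrev srcOver : arrOver G ⟶ objOver G := Over.homMk G.s G.s_over

/-- The target, over the base. -/
abbrev tgtOver : arrOver G ⟶ objOver G := Over.homMk G.t G.t_over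

theorem isEqvRel_of_mono [Mono G.j] : IsEqvRel (srcOver G) (tgtOver G) where
  injective T r r' h1 h2 := by
    refine Over.OverMorphism.ext ((cancel_mono G.j).1 ?_)
    apply pullback.hom_ext
    · simpa [Grpd.GroupoidScheme.j, pullback.lift_fst] using congrArg CommaMorphism.left h1
    · simpa [Grpd.GroupoidScheme.j, pullback.lift_snd] using congrArg CommaMorphism.left h2
  equivalence T := by
    refine ⟨fun a => ⟨Over.homMk (a.left ≫ G.e) ?_, ?_, ?_⟩, fun {a b} h => ?_, fun {a b c} h h' => ?_⟩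
    · show (a.left ≫ G.e) ≫ G.pR = T.hom
      rw [← G.s_over, Category.assoc, reassoc_of% G.e_s]
      exact Over.w a
    · exact Over.OverMorphism.ext (by simp [G.e_t])
    · exact Over.OverMorphism.ext (by simp [G.e_s])
    · obtain ⟨r, rfl, rfl⟩ := h
      refine ⟨Over.homMk (r.left ≫ G.i) ?_, ?_, ?_⟩
      · show (r.left ≫ G.i) ≫ G.pR = T.hom
        rw [← G.s_over, Category.assoc, reassoc_of% G.i_s, G.t_over]
        exact Over.w r
      · exact Over.OverMorphism.ext (by simp [G.i_t])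
      · exact Over.OverMorphism.ext (by simp [G.i_s])
    · obtain ⟨r, rfl, rfl⟩ := h
      obtain ⟨r', h1, rfl⟩ := h'
      have hc : r.left ≫ G.s = r'.left ≫ G.t := (congrArg CommaMorphism.left h1).symm
      refine ⟨Over.homMk (pullback.lift r.left r'.left hc ≫ G.c) ?_, ?_, ?_⟩
      · show (pullback.lift r.left r'.left hc ≫ G.c) ≫ G.pR = T.hom
        rw [← G.s_over, ← Category.assoc, G.comp_s, Category.assoc, G.s_over]
        exact Over.w r'
      · exact Over.OverMorphism.ext (by simpa using G.comp_t r.left r'.left hc)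
      · exact Over.OverMorphism.ext (by simpa using G.comp_s r.left r'.left hc)

theorem exists_quotient_of_thickening [Mono G.j]
    [Flat G.s] [LocallyOfFinitePresentation G.s] [Flat G.t] [LocallyOfFinitePresentation G.t]
    {U₀ : Scheme.{u}} (c₀ : U₀ ⟶ G.U) (hc : MoreMor.IsThickening c₀)
    (ψ : pullback G.s c₀ ≅ pullback G.t c₀) (hψ : ψ.hom ≫ pullback.fst G.t c₀ = pullback.fst G.s c₀)
    {Y₀ : Scheme.{u}} (p₀ : U₀ ⟶ Y₀) [Surjective p₀] [Flat p₀] [LocallyOfFinitePresentation p₀]
    (sq0 : IsPullback (ψ.hom ≫ pullback.snd G.t c₀) (pullback.snd G.s c₀) p₀ p₀) :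
    ∃ (Y : Scheme.{u}) (p : G.U ⟶ Y), Surjective p ∧ Flat p ∧ LocallyOfFinitePresentation p ∧
      IsPullback G.t G.s p p := by
  haveI := hc.1
  -- the structure map of `Y₀`
  have hwψ : pullback.fst G.s c₀ ≫ G.t = (ψ.hom ≫ pullback.snd G.t c₀) ≫ c₀ := by
    rw [← hψ, Category.assoc, Category.assoc, pullback.condition]
  have hws : pullback.fst G.s c₀ ≫ G.s = pullback.snd G.s c₀ ≫ c₀ := pullback.condition
  have hcoeq : ∀ {Z : Scheme.{u}} (g₁ g₂ : Z ⟶ U₀), g₁ ≫ p₀ = g₂ ≫ p₀ →
      g₁ ≫ c₀ ≫ G.pU = g₂ ≫ c₀ ≫ G.pU := fun g₁ g₂ h => by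
    rw [← sq0.lift_fst g₁ g₂ h]
    conv_rhs => rw [← sq0.lift_snd g₁ g₂ h]
    simp only [Category.assoc]
    congr 1
    rw [← Category.assoc, ← Category.assoc, ← hwψ, Category.assoc, G.t_over,
      ← reassoc_of% hws, G.s_over]
  let U : Over S := objOver G
  let R : Over S := arrOver G
  let s : R ⟶ U := srcOver G
  let t : R ⟶ U := tgtOver G
  let M₀ : Over S := Over.mk (EffectiveEpi.desc p₀ (c₀ ≫ G.pU) fun g₁ g₂ h => hcoeq g₁ g₂ h)
  let V : Over S := Over.mk (c₀ ≫ G.pU)
  let q₀ : V ⟶ M₀ := Over.homMk p₀ (EffectiveEpi.fac p₀ _ fun g₁ g₂ h => hcoeq g₁ g₂ h)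
  let c : V ⟶ U := Over.homMk c₀ rfl
  let R₀ : Over S := Over.mk (pullback.fst G.s c₀ ≫ G.pR)
  let s₀ : R₀ ⟶ V := Over.homMk (pullback.snd G.s c₀) (by
    show pullback.snd G.s c₀ ≫ c₀ ≫ G.pU = pullback.fst G.s c₀ ≫ G.pR
    rw [← reassoc_of% hws, G.s_over])
  let t₀ : R₀ ⟶ V := Over.homMk (ψ.hom ≫ pullback.snd G.t c₀) (by
    show (ψ.hom ≫ pullback.snd G.t c₀) ≫ c₀ ≫ G.pU = pullback.fst G.s c₀ ≫ G.pR
    rw [← Category.assoc, ← hwψ, Category.assoc, G.t_over])
  let z : R₀ ⟶ R := Over.homMk (pullback.fst G.s c₀) rfl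
  have hzs : z ≫ s = s₀ ≫ c := Over.OverMorphism.ext hws
  have hzt : z ≫ t = t₀ ≫ c := Over.OverMorphism.ext hwψ
  have hR : IsEqvRel s t := isEqvRel_of_mono G
  haveI : Flat s.left := ‹Flat G.s›
  haveI : LocallyOfFinitePresentation s.left := ‹LocallyOfFinitePresentation G.s›
  haveI : Flat t.left := ‹Flat G.t›
  haveI : LocallyOfFinitePresentation t.left := ‹LocallyOfFinitePresentation G.t›
  have hQ : IsAlgSpace (QuotSh.quot Scheme.fppfPrecoverage s t) := Bootstrap.isAlgSpace_quot hR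
  let π := quotMap s t
  haveI : Sheaf.IsLocallySurjective π := isLocallySurjective_quotMap s t
  have sqπ := isPullback_quot hR
  have hcov : fppfCover q₀.left := fppfCover_mk p₀
  haveI := isLocallySurjective_yon_map q₀ hcov
  have sqY : IsPullback ((yon S).map t₀) ((yon S).map s₀) ((yon S).map q₀) ((yon S).map q₀) :=
    isPullback_yon_of_left (s := s₀) (t := t₀) sq0
  haveI : Mono c.left := inferInstanceAs (Mono c₀)
  haveI : Mono c := Over.mono_of_mono_left _
  obtain ⟨i, hi⟩ := exists_desc ((yon S).map q₀) sqY ((yon S).map c ≫ π) (by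
    rw [← Functor.map_comp_assoc, ← Functor.map_comp_assoc, ← hzt, ← hzs, Functor.map_comp,
      Functor.map_comp, Category.assoc, Category.assoc, sqπ.w])
  have sqi : IsPullback ((yon S).map q₀) ((yon S).map c) i π := by
    refine isPullback_of_yon hi (fun T a a' _ h2 => (cancel_mono _).1 h2) fun T x g w => ?_
    obtain ⟨g, rfl⟩ := (yon S).map_surjective g
    obtain ⟨x, rfl⟩ := (yon S).map_surjective x
    obtain ⟨T', p, a, hp, ha⟩ := exists_lift_of_isLocallySurjective ((yon S).map q₀) ((yon S).map x)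
    obtain ⟨a, rfl⟩ := (yon S).map_surjective a
    have ha' : a ≫ q₀ = p ≫ x := (yon S).map_injective (by rw [Functor.map_comp, Functor.map_comp, ha])
    have h1 : (yon S).map (a ≫ c) ≫ π = (yon S).map (p ≫ g) ≫ π := by
      rw [Functor.map_comp, Category.assoc, ← hi, ← Functor.map_comp_assoc, ha', Functor.map_comp,
        Category.assoc, w, Functor.map_comp, Category.assoc]
    obtain ⟨r, hr⟩ := (yon S).map_surjective (sqπ.lift _ _ h1)
    have hr1 : r ≫ t = a ≫ c := (yon S).map_injective (by rw [Functor.map_comp, hr, sqπ.lift_fst])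
    have hr2 : r ≫ s = p ≫ g := (yon S).map_injective (by rw [Functor.map_comp, hr, sqπ.lift_snd])
    have hrl : r.left ≫ G.t = a.left ≫ c₀ := congrArg CommaMorphism.left hr1
    let wl : T'.left ⟶ pullback G.s c₀ := pullback.lift r.left a.left hrl ≫ ψ.inv
    have hwz : wl ≫ pullback.fst G.s c₀ = r.left := by
      simp only [wl, Category.assoc]
      rw [← hψ, Iso.inv_hom_id_assoc, pullback.lift_fst]
    let w' : T' ⟶ R₀ := Over.homMk wl (by
      show wl ≫ pullback.fst G.s c₀ ≫ G.pR = T'.hom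
      rw [reassoc_of% hwz]
      exact Over.w r)
    have hw1 : w' ≫ z = r := Over.OverMorphism.ext hwz
    have hw2 : w' ≫ t₀ = a := by rw [← cancel_mono c, Category.assoc, ← hzt, reassoc_of% hw1, hr1]
    have hw3 : (w' ≫ s₀) ≫ c = p ≫ g := by rw [Category.assoc, ← hzs, reassoc_of% hw1, hr2]
    haveI := hp.1.1
    haveI := hp.1.2
    haveI := hp.2
    have hg : ∀ {Z : Scheme.{u}} (g₁ g₂ : Z ⟶ T'.left), g₁ ≫ p.left = g₂ ≫ p.left →
        g₁ ≫ (w' ≫ s₀).left = g₂ ≫ (w' ≫ s₀).left := fun g₁ g₂ h => by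
      rw [← cancel_mono c₀, Category.assoc, Category.assoc,
        show (w' ≫ s₀).left ≫ c₀ = p.left ≫ g.left from congrArg CommaMorphism.left hw3,
        reassoc_of% h]
    let gl : T.left ⟶ U₀ := EffectiveEpi.desc p.left (w' ≫ s₀).left fun g₁ g₂ h => hg g₁ g₂ h
    have hgl : gl ≫ c₀ = g.left := by
      rw [← cancel_epi p.left, EffectiveEpi.fac_assoc]
      exact congrArg CommaMorphism.left hw3
    let g₀ : T ⟶ V := Over.homMk gl (by
      show gl ≫ c₀ ≫ G.pU = T.hom
      rw [reassoc_of% hgl]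
      exact Over.w g)
    refine ⟨(yon S).map g₀, ?_, ?_⟩
    · rw [← Functor.map_comp]
      congr 1
      haveI := epi_yon_map p hp
      apply (yon S).map_injective
      rw [← cancel_epi ((yon S).map p), ← Functor.map_comp, ← Functor.map_comp]
      congr 1
      have e1 : p ≫ g₀ = w' ≫ s₀ := Over.OverMorphism.ext (EffectiveEpi.fac p.left _ fun g₁ g₂ h => hg g₁ g₂ h)
      have e2 : t₀ ≫ q₀ = s₀ ≫ q₀ := Over.OverMorphism.ext sq0.w
      rw [← ha', ← Category.assoc, e1, Category.assoc, ← e2, reassoc_of% hw2]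
    · rw [← Functor.map_comp]
      exact congrArg _ (Over.OverMorphism.ext hgl)
  haveI := AlgSpMor.Sep.isLocalAtTarget_fppf_isClosedImmersion.{u}
  haveI := isLocalAtTarget_fppf_surjective.{u}
  haveI := Bootstrap.isLocalAtTarget_fppf_flat.{u}
  haveI := Bootstrap.isLocalAtTarget_fppf_lfp.{u}
  have hrep : Representable i := representable_from_yon hQ.diag i
  have hthick : AlgSp.IsThickMor i := by
    have h1 : RepWith @IsClosedImmersion i :=
      repWith_of_isLocallySurjective hrep _ sqi @IsClosedImmersion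
        ((AlgSp.repWith_yon_map_iff _ _).2 hc.1)
    have h2 : RepWith @Surjective i := repWith_of_isLocallySurjective hrep _ sqi @Surjective
      ((AlgSp.repWith_yon_map_iff _ _).2 hc.2)
    exact repWith_inf_iff.2 ⟨h1, h2⟩
  obtain ⟨Y, ⟨e⟩⟩ := AffThick.exists_scheme hQ hthick (Iso.refl _)
  obtain ⟨q, hq⟩ := (yon S).map_surjective (π ≫ e.inv)
  have hπ := representable_from_yon hQ.diag π
  have sqq : IsPullback (𝟙 ((yon S).obj U)) ((yon S).map q) π e.hom :=
    IsPullback.of_horiz_isIso ⟨by rw [hq, Category.assoc, Iso.inv_hom_id, Category.comp_id, Category.id_comp]⟩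
  rw [← (yon S).map_id] at sqq
  have sqp : IsPullback t s q q := by
    refine isPullback_of_yon_map (sqπ.of_iso (Iso.refl _) (Iso.refl _) (Iso.refl _)
      e.symm (by simp) (by simp) ?_ ?_) <;> simp [hq, π]
  refine ⟨Y.left, q.left, ?_, ?_, ?_, sqp.map (Over.forget S)⟩
  · exact repWith_property (repWith_of_isLocallySurjective hπ _ sqπ @Surjective
      ((AlgSp.repWith_yon_map_iff _ _).2 (surjective_left_of_eqvRel hR).2)) sqq
  · exact repWith_property (repWith_of_isLocallySurjective hπ _ sqπ @Flat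
      ((AlgSp.repWith_yon_map_iff _ _).2 ‹_›)) sqq
  · exact repWith_property (repWith_of_isLocallySurjective hπ _ sqπ @LocallyOfFinitePresentation
      ((AlgSp.repWith_yon_map_iff _ _).2 ‹_›)) sqq

end Groth.Agent.Lib.GrpdQuot
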